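import Cfsg.Agent.Lib.Involutions.OrderFormula

/-!
# Generalities for counting pairs of involutions

Middle powers of products of two involutions, parity of fixed points, and counting pairs through a
common fixed point in a finite set acted on by conjugation.
-/

set_option autoImplicit false

namespace Cfsg.Agent.HeLocal.Count

open Subgroup

variable {G : Type*} [Group G]

/-- An involution among the powers of a product of two involutions commutes with both. -/
theorem comm_of_mem_zpowers {u v w : G} (hu : u * u = 1) (hv : v * v = 1) (hw : w * w = 1)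
    (h : w ∈ zpowers (u * v)) : w * u = u * w ∧ w * v = v * w := by
  obtain ⟨n, rfl⟩ := mem_zpowers_iff.1 h
  have hu' : u⁻¹ = u := inv_eq_of_mul_eq_one_right hu
  have hv' : v⁻¹ = v := inv_eq_of_mul_eq_one_right hv
  have h1 : u * (u * v) ^ n * u⁻¹ = (u * v) ^ n := by
    rw [← conj_zpow, show u * (u * v) * u⁻¹ = (u * v)⁻¹ by
      rw [mul_inv_rev, hu', hv', ← mul_assoc u u v, hu, one_mul], inv_zpow]
    exact inv_eq_of_mul_eq_one_right hw
  have e : u * (u * v) ^ n = (u * v) ^ n * u := mul_inv_eq_iff_eq_mul.1 h1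
  refine ⟨e.symm, ?_⟩
  have hv2 : v = u * (u * v) := by rw [← mul_assoc, hu, one_mul]
  calc (u * v) ^ n * v = (u * v) ^ n * (u * (u * v)) := by rw [← hv2]
    _ = u * ((u * v) ^ n * (u * v)) := by rw [← mul_assoc, ← e, mul_assoc]
    _ = u * ((u * v) * (u * v) ^ n) := by rw [((Commute.refl (u * v)).zpow_left n).eq]
    _ = u * (u * v) * (u * v) ^ n := (mul_assoc _ _ _).symm
    _ = _ := by rw [← hv2]

/-- The product with an even power of a product of involutions is a conjugate. -/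
theorem mul_pow_even {u v : G} (hu : u * u = 1) (hv : v * v = 1) (j : ℕ) :
    ((u * v) ^ j)⁻¹ * u * (u * v) ^ j = u * (u * v) ^ (j + j) := by
  have hu' : u⁻¹ = u := inv_eq_of_mul_eq_one_right hu
  have hv' : v⁻¹ = v := inv_eq_of_mul_eq_one_right hv
  have h : u * (u * v) ^ j * u⁻¹ = ((u * v) ^ j)⁻¹ := by
    rw [← conj_pow, show u * (u * v) * u⁻¹ = (u * v)⁻¹ by
      rw [mul_inv_rev, hu', hv', ← mul_assoc u u v, hu, one_mul], inv_pow]
  rw [← h, pow_add]
  group

/-- The product with an odd power of a product of involutions is a conjugate of the second. -/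
theorem mul_pow_odd {u v : G} (hu : u * u = 1) (hv : v * v = 1) (j : ℕ) :
    ((u * v) ^ j)⁻¹ * v * (u * v) ^ j = u * (u * v) ^ (j + j + 1) := by
  have hu' : u⁻¹ = u := inv_eq_of_mul_eq_one_right hu
  have hv' : v⁻¹ = v := inv_eq_of_mul_eq_one_right hv
  have h : v * (u * v) ^ j * v⁻¹ = ((u * v) ^ j)⁻¹ := by
    rw [← conj_pow, show v * (u * v) * v⁻¹ = (u * v)⁻¹ by
      rw [mul_inv_rev, hu', hv', mul_assoc v (u * v) v, mul_assoc u v v, hv, mul_one], inv_pow]
  rw [← h, show j + j + 1 = 1 + (j + j) by omega, pow_add, pow_add, pow_one]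
  calc v * (u * v) ^ j * v⁻¹ * v * (u * v) ^ j = v * ((u * v) ^ j * (u * v) ^ j) := by group
    _ = u * (u * v * ((u * v) ^ j * (u * v) ^ j)) := by
      rw [← mul_assoc u (u * v), ← mul_assoc u u, hu, one_mul]

variable [DecidableEq G]

/-- An involution normalizing a set of odd order centralizes an odd number of its members. -/
theorem odd_fixed (s : Finset G) (hs : Odd s.card) {u : G} (hu : u * u = 1)
    (hinv : ∀ r ∈ s, u * r * u⁻¹ ∈ s) : Odd (s.filter fun r => u * r = r * u).card := by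
  have hu' : u⁻¹ = u := inv_eq_of_mul_eq_one_right hu
  have h : ∑ r ∈ s.filter (fun r => ¬ u * r = r * u), (1 : ZMod 2) = 0 := by
    refine Finset.sum_involution (fun r _ => u * r * u⁻¹) (fun _ _ => by decide) ?_ ?_ ?_
    · intro r hr _ e
      exact (Finset.mem_filter.1 hr).2 (mul_inv_eq_iff_eq_mul.1 e)
    · intro r hr
      obtain ⟨h1, h2⟩ := Finset.mem_filter.1 hr
      refine Finset.mem_filter.2 ⟨hinv r h1, fun e => h2 ?_⟩
      have e' : u * (u * r * u⁻¹) * u⁻¹ = u * r * u⁻¹ := mul_inv_eq_iff_eq_mul.2 e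
      rw [show u * (u * r * u⁻¹) * u⁻¹ = u * u * r * (u * u)⁻¹ by group, hu] at e'
      exact mul_inv_eq_iff_eq_mul.1 (by simpa using e'.symm)
    · intro r _
      rw [show u * (u * r * u⁻¹) * u⁻¹ = u * u * r * (u * u)⁻¹ by group, hu]
      simp
  rw [Finset.sum_const, nsmul_one, ZMod.natCast_eq_zero_iff_even] at h
  have hc := s.card_filter_add_card_filter_not (fun r => u * r = r * u)
  rw [Nat.odd_iff] at hs ⊢
  rw [Nat.even_iff] at h
  omega

/-- The members of `s` commuting with both. -/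
def common (s : Finset G) (p : G × G) : Finset G := s.filter fun r => r * p.1 = p.1 * r ∧ r * p.2 = p.2 * r

/-- Pairs having a common fixed point in an orbit, counted at one point. -/
theorem card_weighted (s : Finset G) (X : Subgroup G) (z₀ : G) (hz₀ : z₀ ∈ s)
    (hconj : ∀ g ∈ X, ∀ r ∈ s, g * r * g⁻¹ ∈ s) (htrans : ∀ r ∈ s, ∃ g ∈ X, g * z₀ * g⁻¹ = r)
    (P : Finset (G × G)) (hinv : ∀ g ∈ X, ∀ p ∈ P, (g * p.1 * g⁻¹, g * p.2 * g⁻¹) ∈ P)
    (hfix : ∀ p ∈ P, (common s p).Nonempty)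
    (hdvd : ∀ p ∈ P, z₀ ∈ common s p → (common s p).card ∣ s.card) :
    P.card = ∑ p ∈ P.filter (fun p => z₀ ∈ common s p), s.card / (common s p).card := by
  have hc : ∀ g ∈ X, ∀ (r : G) (p : G × G), r ∈ common s p →
      g * r * g⁻¹ ∈ common s (g * p.1 * g⁻¹, g * p.2 * g⁻¹) := by
    intro g hg r p hr
    simp only [common, Finset.mem_filter] at hr ⊢
    obtain ⟨h1, h2, h3⟩ := hr
    refine ⟨hconj g hg r h1, ?_, ?_⟩
    · rw [show g * r * g⁻¹ * (g * p.1 * g⁻¹) = g * (r * p.1) * g⁻¹ by group, h2]; group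
    · rw [show g * r * g⁻¹ * (g * p.2 * g⁻¹) = g * (r * p.2) * g⁻¹ by group, h3]; group
  have hcard : ∀ g ∈ X, ∀ p : G × G, (common s (g * p.1 * g⁻¹, g * p.2 * g⁻¹)).card = (common s p).card := by
    intro g hg p
    refine (Finset.card_bij (fun r _ => g * r * g⁻¹) (fun r hr => hc g hg r p hr)
      (fun a _ b _ h => mul_left_cancel (mul_right_cancel h)) ?_).symm
    intro r hr
    have h := hc g⁻¹ (inv_mem hg) r _ hr
    rw [show g⁻¹ * (g * p.1 * g⁻¹) * g⁻¹⁻¹ = p.1 by group,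
      show g⁻¹ * (g * p.2 * g⁻¹) * g⁻¹⁻¹ = p.2 by group] at h
    exact ⟨g⁻¹ * r * g⁻¹⁻¹, h, by group⟩
  set w : G × G → ℕ := fun p => s.card / (common s p).card with hw
  set T : G → ℕ := fun r => ∑ p ∈ P.filter (fun p => r ∈ common s p), w p with hT
  have hTr : ∀ r ∈ s, T r = T z₀ := by
    intro r hr
    obtain ⟨g, hg, rfl⟩ := htrans r hr
    refine (Finset.sum_bij (fun p _ => (g * p.1 * g⁻¹, g * p.2 * g⁻¹)) ?_ ?_ ?_ ?_).symm
    · intro p hp
      obtain ⟨h1, h2⟩ := Finset.mem_filter.1 hp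
      exact Finset.mem_filter.2 ⟨hinv g hg p h1, hc g hg _ p h2⟩
    · intro a _ b _ h
      obtain ⟨e1, e2⟩ := Prod.mk.injEq _ _ _ _ ▸ h
      exact Prod.ext (mul_left_cancel (mul_right_cancel e1)) (mul_left_cancel (mul_right_cancel e2))
    · intro q hq
      obtain ⟨h1, h2⟩ := Finset.mem_filter.1 hq
      have h3 := hc g⁻¹ (inv_mem hg) _ q h2
      rw [show g⁻¹ * (g * z₀ * g⁻¹) * g⁻¹⁻¹ = z₀ by group] at h3
      exact ⟨(g⁻¹ * q.1 * g⁻¹⁻¹, g⁻¹ * q.2 * g⁻¹⁻¹), Finset.mem_filter.2 ⟨hinv _ (inv_mem hg) q h1, h3⟩,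
        Prod.ext (by group) (by group)⟩
    · intro p _
      simp only [hw, hcard g hg p]
  have h1 : ∑ r ∈ s, T r = ∑ p ∈ P, (common s p).card * w p := by
    rw [hT, Finset.sum_congr rfl fun r _ => Finset.sum_filter (s := P) (fun p => r ∈ common s p) w,
      Finset.sum_comm]
    refine Finset.sum_congr rfl fun p _ => ?_
    rw [← Finset.sum_filter, Finset.sum_const, smul_eq_mul,
      Finset.filter_mem_eq_inter, Finset.inter_eq_right.2 (show common s p ⊆ s from Finset.filter_subset _ _)]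
  have h2 : ∀ p ∈ P, (common s p).card * w p = s.card := by
    intro p hp
    obtain ⟨r, hr⟩ := hfix p hp
    obtain ⟨g, hg, hgr⟩ := htrans r (Finset.mem_filter.1 hr).1
    have h3 := hc g⁻¹ (inv_mem hg) r p hr
    rw [← hgr, show g⁻¹ * (g * z₀ * g⁻¹) * g⁻¹⁻¹ = z₀ by group] at h3
    have h4 := hdvd _ (hinv _ (inv_mem hg) p hp) h3
    rw [hcard _ (inv_mem hg)] at h4
    exact Nat.mul_div_cancel' h4
  rw [Finset.sum_congr rfl hTr, Finset.sum_const, smul_eq_mul, Finset.sum_congr rfl h2, Finset.sum_const,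
    smul_eq_mul, mul_comm P.card] at h1
  exact (Nat.eq_of_mul_eq_mul_left (Finset.card_pos.2 ⟨z₀, hz₀⟩) h1).symm

end Cfsg.Agent.HeLocal.Count
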