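import Cfsg.Agent.Lib.HeLocal.Count.Data
import Cfsg.Agent.Lib.HeLocal.Count.Basic
import Cfsg.Agent.Lib.HeLocal.Pattern.Classes

/-!
# The pairs attached to the centre in the order formula
-/

set_option autoImplicit false

namespace Cfsg.Agent.HeLocal

open Subgroup Code Count
open Cfsg.Agent.InvChar.Coset.HeCent (idP)

attribute [local irreducible] rep el code

namespace Count

theorem inPow_iff (g : Mdl) (t : ℕ) : ∀ n m : ℕ,
    inPow (code g) t n (code (g ^ m)) = true ↔ ∃ k < n, code (g ^ (m + k)) = t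
  | 0, m => by simp [inPow]
  | n + 1, m => by
    rw [inPow, Bool.or_eq_true, Nat.beq_eq, ← code_mul, ← pow_succ, inPow_iff g t n (m + 1)]
    constructor
    · rintro (h | ⟨k, hk, h⟩)
      · exact ⟨0, n.succ_pos, h⟩
      · exact ⟨k + 1, by omega, by rw [← h]; congr 2; omega⟩
    · rintro ⟨k, hk, h⟩
      rcases k with - | k
      · exact Or.inl h
      · exact Or.inr ⟨k, by omega, by rw [← h]; congr 2; omega⟩

/-- The Boolean test for the cyclic subgroup. -/
theorem hasPow_code {g k : Mdl} : hasPow (code g) (code k) = true ↔ k ∈ zpowers g := by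
  have h0 : ∀ t, hasPow (code g) t = true ↔ ∃ j < 15, code (g ^ (1 + j)) = t := fun t => by
    rw [hasPow, ← inPow_iff g t 15 1, pow_one]
  rw [h0]
  constructor
  · rintro ⟨j, -, h⟩
    exact code_inj h ▸ pow_mem (mem_zpowers g) _
  · intro h
    obtain ⟨e, he, he1⟩ := (h0 idP).1 (forall_codes order_pass g)
    have hpow : g ^ (1 + e) = 1 := code_inj (he1.trans code_one.symm)
    have hfo : IsOfFinOrder g := isOfFinOrder_iff_pow_eq_one.2 ⟨1 + e, by omega, hpow⟩
    obtain ⟨m, hm, rfl⟩ : ∃ m, m < 1 + e ∧ g ^ m = k := by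
      obtain ⟨m, rfl⟩ := hfo.mem_powers_iff_mem_zpowers.2 h
      exact ⟨m % (1 + e), Nat.mod_lt _ (by omega), (pow_eq_pow_mod m hpow).symm⟩
    rcases m with - | m
    · exact ⟨e, he, by rw [hpow, pow_zero]⟩
    · exact ⟨m, by omega, by rw [add_comm 1 m]⟩

theorem hasPow_rep {g : Mdl} {i : ℕ} (hi : i < 8) : hasPow (code g) (repc i) = true ↔ rep i ∈ zpowers g := by
  rw [← code_rep hi, hasPow_code]

theorem isInv_of_mem {g : Mdl} (h : code g ∈ invCodes) : IsInv g := by
  obtain ⟨e, he, hea⟩ := List.mem_map.1 h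
  have h := List.all_eq_true.1 certs_ok e he
  simp only [certOK, Bool.and_eq_true] at h
  exact isInv_iff.2 (hea ▸ h.1.1.2)

theorem inK_inv {a : ℕ} (h : a ∈ invCodes) : inK a = true := by
  obtain ⟨e, he, rfl⟩ := List.mem_map.1 h
  have h := List.all_eq_true.1 certs_ok e he
  simp only [certOK, Bool.and_eq_true] at h
  exact h.1.1.1.1

theorem mem_cwL {a : Mdl} : code a ∈ cwL ↔ IsInv a ∧ a * rep 3 = rep 3 * a := by
  rw [cwL, List.mem_filter, ← code_rep (show (3 : ℕ) < 8 by norm_num), cm_code]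
  exact and_congr_left' ⟨isInv_of_mem, code_mem_invCodes⟩

theorem inK_cwL {a : ℕ} (h : a ∈ cwL) : inK a = true := inK_inv (List.mem_filter.1 h).1

theorem sq_of_isConj {G : Type*} [Group G] {a u : G} (ha : a * a = 1) (h : IsConj a u) : u * u = 1 := by
  obtain ⟨c, rfl⟩ := isConj_iff.1 h
  rw [show c * a * c⁻¹ * (c * a * c⁻¹) = c * (a * a) * c⁻¹ by group, ha]; group

end Count

namespace Iso

variable {G : Type*} [Group G] {z : G} (I : Iso z)

/-- The involution of the second class. -/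
noncomputable def t3 : G := I.ι (rep 3)

include I in
theorem z_sq : z * z = 1 := I.ι_zc ▸ I.ι_sq zc_inv

theorem t3_sq : I.t3 * I.t3 = 1 := I.ι_sq (isInv_rep (by norm_num))

/-- The two possible patterns. -/
def Bit (b : Bool) : Prop := ∀ g : Mdl, zt b (code g) = true ↔ I.ZType g

theorem bit_of {b : Bool} (S : I.Sides) (h7 : ¬ I.ZType (rep 7)) (h6 : b = true ↔ I.ZType (rep 6)) : I.Bit b := by
  classical
  intro g
  have e : zS I = S2 b := by
    unfold zS S2
    rw [decide_eq_true S.one, decide_eq_true S.two, decide_eq_true S.four, decide_eq_false h7]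
    congr 1
    rcases b with - | -
    · exact decide_eq_false fun h => Bool.false_ne_true (h6.2 h)
    · exact decide_eq_true (h6.1 rfl)
  rw [zt, ← e, I.zS_code]

variable {b : Bool} (hb : I.Bit b)
include hb

theorem zt_rep {i : ℕ} (hi : i < 8) : S2 b i = true ↔ I.ZType (rep i) := by
  rw [← hb, zt, code_rep hi, tagS, (reps_ok i hi).2.1, cond_true, (reps_ok i hi).2.2.1]

variable [Finite G] (S : I.Sides)

omit hb in
include S in
/-- The conjugates of the involution of the second class in the centralizer of `z`. -/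
theorem isConj_t3_iff {g : Mdl} : IsConj I.t3 (I.ι g) ↔ IsInv g ∧ ¬ I.ZType g := by
  have h3 := isInv_rep (show 3 < 8 by norm_num)
  constructor
  · intro h
    refine ⟨?_, fun hz => I.not_zType_three (hz.trans h.symm)⟩
    obtain ⟨c, hc⟩ := isConj_iff.1 h
    refine I.isInv_of ?_ ?_
    · rw [← hc, t3, show c * I.ι (rep 3) * c⁻¹ * (c * I.ι (rep 3) * c⁻¹) = c * (I.ι (rep 3) * I.ι (rep 3)) * c⁻¹ by
        group, I.ι_sq h3]
      group
    · rw [← hc]; exact fun e => I.ι_ne h3 (conj_eq_one_iff.1 e)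
  · rintro ⟨hg, hz⟩
    exact (I.isConj_or S (I.ι_sq hg) (I.ι_ne hg)).resolve_left hz

include S in
/-- The pairs with product having a power equal to `z`. -/
theorem card_pairs_z : Nat.card {p : G × G // IsConj z p.1 ∧ IsConj I.t3 p.2 ∧ z ∈ zpowers (p.1 * p.2)} =
    n1c b := by
  classical
  have : Fintype Mdl := Fintype.ofFinite _
  let M : Mdl → Mdl → Prop := fun a v => (IsInv v ∧ ¬ I.ZType v) ∧ zc ∈ zpowers (a * v)
  let f : {q : Mdl × Mdl // I.ZType q.1 ∧ M q.1 q.2} →
      {p : G × G // IsConj z p.1 ∧ IsConj I.t3 p.2 ∧ z ∈ zpowers (p.1 * p.2)} := fun q =>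
    ⟨(I.ι q.1.1, I.ι q.1.2), q.2.1, (I.isConj_t3_iff S).2 q.2.2.1, by
      have := mem_map_of_mem I.ι q.2.2.2
      rwa [MonoidHom.map_zpowers, map_mul, ι_zc] at this⟩
  have hf : Function.Bijective f := by
    constructor
    · intro q r h
      have h' := congrArg Subtype.val h
      simp only [f, Prod.mk.injEq] at h'
      exact Subtype.ext (Prod.ext (I.ι_inj h'.1) (I.ι_inj h'.2))
    · rintro ⟨⟨u, v⟩, h1, h2, h3⟩
      obtain ⟨e1, e2⟩ := comm_of_mem_zpowers (sq_of_isConj I.z_sq h1) (sq_of_isConj I.t3_sq h2) I.z_sq h3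
      obtain ⟨a, rfl⟩ := I.exists_ι e1.symm
      obtain ⟨c, rfl⟩ := I.exists_ι e2.symm
      refine ⟨⟨(a, c), h1, (I.isConj_t3_iff S).1 h2, ?_⟩, rfl⟩
      rw [← mem_map_iff_mem (f := I.ι) I.ι_inj, MonoidHom.map_zpowers, map_mul, ι_zc]
      exact h3
  rw [← Nat.card_eq_of_bijective f hf]
  let e : {q : Mdl × Mdl // I.ZType q.1 ∧ M q.1 q.2} ≃ Σ a : {a : Mdl // I.ZType a}, {v : Mdl // M a.1 v} :=
    { toFun := fun q => ⟨⟨q.1.1, q.2.1⟩, q.1.2, q.2.2⟩
      invFun := fun s => ⟨(s.1.1, s.2.1), s.1.2, s.2.2⟩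
      left_inv := fun _ => rfl
      right_inv := fun _ => rfl }
  rw [Nat.card_congr e, Nat.card_sigma]
  have hrow : ∀ a : Mdl, IsInv a → Nat.card {v : Mdl // M a v} = rowZ b (tag a) := by
    intro a ha
    obtain ⟨k, hk⟩ := exists_conj_rep ha
    have ht := tag_lt ha
    have e' : {v : Mdl // M (rep (tag a)) v} ≃ {v : Mdl // M a v} :=
      (MulAut.conj k).toEquiv.subtypeEquiv fun v => by
        show M (rep (tag a)) v ↔ M a (k * v * k⁻¹)
        refine and_congr (and_congr ⟨fun h => h.conj k, fun h => ?_⟩ (not_congr (I.zType_conj k).symm)) ?_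
        · have := h.conj k⁻¹
          rwa [show k⁻¹ * (k * v * k⁻¹) * k⁻¹⁻¹ = v by group] at this
        · rw [← mem_map_iff_mem (f := (MulAut.conj k).toMonoidHom) (MulAut.conj k).injective,
            MonoidHom.map_zpowers, map_mul]
          show k * zc * k⁻¹ ∈ zpowers (k * rep (tag a) * k⁻¹ * (k * v * k⁻¹)) ↔ _
          rw [hk, zc_comm, mul_inv_cancel_right]
    rw [← Nat.card_congr e', rowZ, List.countP_eq_length_filter]
    refine card_eq_list (certs_nodup.filter _) (fun x hx => inK_inv (List.mem_filter.1 hx).1) fun v => ?_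
    rw [List.mem_filter, Bool.and_eq_true, Bool.not_eq_true', ← Bool.not_eq_true, hb, ← code_rep ht,
      ← code_mul, hasPow_rep (show 0 < 8 by norm_num)]
    exact ⟨fun h => ⟨code_mem_invCodes h.1.1, h.1.2, h.2⟩, fun h => ⟨⟨isInv_of_mem h.1, h.2.1⟩, h.2.2⟩⟩
  rw [Finset.sum_congr rfl fun a _ => hrow a.1 (I.isInv_of_zType a.2), ← Finset.sum_fiberwise_of_maps_to
    (g := fun a : {a : Mdl // I.ZType a} => tag a.1) (t := Finset.range 8)
    fun a _ => Finset.mem_range.2 (tag_lt (I.isInv_of_zType a.2))]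
  have hn : n1c b = ∑ i ∈ Finset.range 8, (bif S2 b i then sizes.getD i 0 * rowZ b i else 0) := by
    rw [n1c, Finset.sum_list_map_count, List.toFinset_range]
    exact Finset.sum_congr rfl fun i hi => by
      rw [List.count_eq_one_of_mem List.nodup_range (List.mem_range.2 (Finset.mem_range.1 hi)), one_smul]
  rw [hn]
  refine Finset.sum_congr rfl fun i hi => ?_
  have hi8 := Finset.mem_range.1 hi
  rw [Finset.sum_congr rfl fun a ha => by rw [(Finset.mem_filter.1 ha).2], Finset.sum_const, smul_eq_mul]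
  have hc : (Finset.univ.filter fun a : {a : Mdl // I.ZType a} => tag a.1 = i).card =
      Nat.card {g : Mdl // I.ZType g ∧ tag g = i} := by
    rw [← Fintype.card_subtype, ← Nat.card_eq_fintype_card]
    exact Nat.card_congr (Equiv.subtypeSubtypeEquivSubtypeInter (fun a => I.ZType a) fun a => tag a = i)
  rw [hc]
  rcases em (I.ZType (rep i)) with hz | hz
  · rw [(I.zt_rep hb hi8).2 hz, cond_true, ← card_class hi8]
    refine congrArg (· * rowZ b i) (Nat.card_congr (Equiv.subtypeEquivRight fun g => ?_))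
    exact ⟨fun h => ⟨I.isInv_of_zType h.1, h.2⟩, fun h => ⟨(I.zType_iff_rep h.1).2 (h.2 ▸ hz), h.2⟩⟩
  · rw [Bool.eq_false_iff.2 fun h => hz ((I.zt_rep hb hi8).1 h), cond_false]
    have : IsEmpty {g : Mdl // I.ZType g ∧ tag g = i} :=
      ⟨fun g => hz (g.2.2 ▸ (I.zType_iff_rep (I.isInv_of_zType g.2.1)).1 g.2.1)⟩
    rw [Nat.card_of_isEmpty, zero_mul]

end Iso

end Cfsg.Agent.HeLocal
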