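import Cfsg.Agent.Lib.HeLocal.Pattern.Data

/-!
# Finite counts in the model for the order formula

The pattern is given by one bit: whether the seventh representative is conjugate to the centre.
-/

set_option autoImplicit false
set_option maxRecDepth 100000

namespace Cfsg.Agent.HeLocal.Count

open Code
open Cfsg.Agent.InvChar.Coset.HeCent (idP)

/-- A power of `c` is `t`. -/
def inPow (c t : ℕ) : ℕ → ℕ → Bool
  | 0, _ => false
  | n + 1, p => Nat.beq p t || inPow c t n (mulF p c)

/-- One of the first fifteen powers of `c` is `t`. -/
def hasPow (c t : ℕ) : Bool := inPow c t 15 c

/-- The union of the classes conjugate to the centre. -/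
def S2 (b : Bool) : ℕ → Bool := inS true true true b false

/-- Conjugate to the centre. -/
def zt (b : Bool) (a : ℕ) : Bool := S2 b (tagS a)

/-- The involutions commuting with the fourth representative. -/
def cwL : List ℕ := invCodes.filter fun a => cm a (repc 3)

/-- The conjugates of `z` under the centralizer of the fourth representative. -/
def rl : Bool → List ℕ
  | false => [17043523, 17051713, 17053771]
  | true => [17043523, 17043537, 17043539, 17043545, 17043547, 17051713, 17053771, 17059915, 17059929,
      17061963, 17061979, 17068107, 17068113, 17070155, 17070163]

/-- The members of `rl` commuting with both. -/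
def fc (b : Bool) (q : ℕ × ℕ) : ℕ := (rl b).countP fun r => cm r q.1 && cm r q.2

/-- The weight of a pair. -/
def wt (b : Bool) (q : ℕ × ℕ) : ℕ := (rl b).length / fc b q

/-- Commutes with every member of `rl`. -/
def allR (b : Bool) (a : ℕ) : Bool := (rl b).all fun r => cm r a

/-- Conjugates of `z` off the orbit with product not conjugate to `z`. -/
def farL (b : Bool) : List ℕ :=
  cwL.filter fun a => zt b a && (!zt b (mulF a (repc 3)) && !memL a (rl b))

/-- Conjugates of `z` whose product with the fourth representative is one. -/
def nearL (b : Bool) : List ℕ := cwL.filter fun a => zt b a && zt b (mulF a (repc 3))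

/-- The pairs with product a multiple of the fourth representative, the first member fixing the orbit. -/
def fixPairs (b : Bool) : List (ℕ × ℕ) :=
  ((cwL.filter fun a => zt b a && allR b a) ×ˢ (cwL.filter fun v => !zt b v)).filter fun q =>
    hasPow (mulF q.1 q.2) (repc 3)

/-- The commuting pairs off the orbit. -/
def farPairs (b : Bool) : List (ℕ × ℕ) :=
  (farL b ×ˢ farL b).filter fun q => !Nat.beq q.1 q.2 && cm q.1 q.2

/-- The pairs with product a multiple of the centre, by the class of the first member. -/
def rowZ (b : Bool) (i : ℕ) : ℕ :=
  invCodes.countP fun v => !zt b v && hasPow (mulF (repc i) v) (repc 0)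

/-- The pairs with product a multiple of the centre. -/
def n1c (b : Bool) : ℕ :=
  ((List.range 8).map fun i => bif S2 b i then sizes.getD i 0 * rowZ b i else 0).sum

set_option maxHeartbeats 0 in
-- a pass over the 21504 codes
theorem order_pass : allC (fun g => hasPow g idP) = true := by decide +kernel

theorem n1c_eq : n1c false = 4788 ∧ n1c true = 22260 := by decide +kernel

theorem rl_check : ∀ b : Bool, ((rl b).all fun r => inK r && isInv r && cm r (repc 3) &&
    (zt b r && !zt b (mulF r (repc 3))) && (rl b).all fun r' => cm r r') = true ∧ (rl b).Nodup ∧
    memL (repc 0) (rl b) = true := by decide +kernel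

theorem rl_length : (rl false).length = 3 ∧ (rl true).length = 15 := by decide +kernel

theorem z_lists : (cwL.filter (zt false)).length = 33 ∧ (nearL true).length = 30 := by decide +kernel

theorem fix_weights : ∀ b : Bool, ((fixPairs b).all fun q => Nat.beq (fc b q * wt b q) (rl b).length) = true := by
  decide +kernel

theorem fix_sum : ((fixPairs false).map (wt false)).sum = 123 ∧ ((fixPairs true).map (wt true)).sum = 495 := by
  decide +kernel

theorem far_weights : ((farPairs true).all fun q => Nat.beq (fc true q * wt true q) 15) = true ∧
    ((farPairs true).map (wt true)).sum = 660 := by decide +kernel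

/-- Members off the orbit commute and fix three points; a product with both forms outside the
class of `z` has no further fixed points. -/
theorem far_check : ((farL true).all fun a => !allR true a && (farL true).all fun a' => cm a a' &&
    (Nat.beq a a' || zt true (mulF a a') || zt true (mulF (mulF a a') (repc 3)) ||
      (rl true).all fun r => !cm r (mulF a a') || cm r a)) = true := by decide +kernel

theorem cwL_nodup : cwL.Nodup := certs_nodup.filter _

end Cfsg.Agent.HeLocal.Count
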