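import Cfsg.Agent.Lib.HeLocal.Count.Pairs

/-!
# The conjugates of `z` off the orbit, and the pairs attached to the second class
-/

set_option autoImplicit false

namespace Cfsg.Agent.HeLocal

open Subgroup Code
open Cfsg.Agent.HeLocal.Count

attribute [local irreducible] rep el code

namespace Iso

variable {G : Type*} [Group G] [Finite G] {z : G} {I : Iso z}

/-- In the smaller pattern every conjugate of `z` fixes the whole orbit. -/
theorem comm_all_false (hC : I.IsOrbList false) (hb : I.Bit false) (S : I.Sides) {u : G} (hu : IsConj z u)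
    (hut : u * I.t3 = I.t3 * u) {r : G} (hr : I.Orb 3 r) : r * u = u * r := by
  classical
  have : Fintype G := Fintype.ofFinite G
  refine comm_all_of_count hC (fun u => IsConj z u ∧ u * I.t3 = I.t3 * u) ?_ (cwL.filter (zt false))
    (cwL_nodup.filter _) (fun a ha => inK_cwL (List.mem_filter.1 ha).1) ?_ ?_ ⟨hu, hut⟩ hr
  · rintro g hg u ⟨h1, h2⟩
    refine ⟨h1.trans (isConj_iff.2 ⟨g, rfl⟩), ?_⟩
    have hg' := mem_Xt.1 hg
    have hg'' : I.t3 * g⁻¹ = g⁻¹ * I.t3 := by
      calc I.t3 * g⁻¹ = g⁻¹ * (g * I.t3) * g⁻¹ := by group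
        _ = _ := by rw [hg']; group
    calc g * u * g⁻¹ * I.t3 = g * (u * I.t3) * g⁻¹ := by rw [mul_assoc (g * u), ← hg'']; group
      _ = g * I.t3 * (u * g⁻¹) := by rw [h2]; group
      _ = _ := by rw [hg']; group
  · intro a
    rw [mem_zt_cwL, hb, show IsConj z (I.ι a) ↔ I.ZType a from Iff.rfl, t3, I.ι_comm_iff]
    exact ⟨fun h => ⟨I.isInv_of_zType h.1, h.2, h.1⟩, fun h => ⟨h.2.2, h.2.1⟩⟩
  · have hsub : ∀ u : G, (IsConj z u ∧ u * I.t3 = I.t3 * u) ↔
        (I.Orb 3 u ∨ I.Orb 5 u) ∨ (I.Orb 6 u ∨ I.Orb 7 u) := by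
      intro u
      constructor
      · rintro ⟨h1, h2⟩
        obtain ⟨i, hi, -, h⟩ := exists_orb hb S h1 h2
        rcases hi with rfl | rfl | rfl | rfl
        exacts [.inl (.inl h), .inl (.inr h), .inr (.inl h), .inr (.inr h)]
      · rintro ((h | h) | (h | h)) <;> exact ⟨h.isConj, h.comm⟩
    have hdisj : ∀ i j : ℕ, i < 8 → j < 8 → i ≠ j → Disjoint (Finset.univ.filter fun u => I.Orb i u)
        (Finset.univ.filter fun u => I.Orb j u) := fun i j hi hj hij =>
      Finset.disjoint_filter.2 fun u _ h h' => hij (h.unique hi hj h')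
    rw [Nat.card_congr (Equiv.subtypeEquivRight hsub), Nat.card_eq_fintype_card, Fintype.card_subtype,
      Finset.filter_or, Finset.filter_or, Finset.filter_or, Finset.card_union_of_disjoint,
      Finset.card_union_of_disjoint (hdisj 3 5 (by norm_num) (by norm_num) (by norm_num)),
      Finset.card_union_of_disjoint (hdisj 6 7 (by norm_num) (by norm_num) (by norm_num))]
    · simp only [← Fintype.card_subtype, ← Nat.card_eq_fintype_card]
      have hX : Nat.card I.Xt = 1536 := by rw [card_Xt hC hb S, rl_length.1]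
      have h3 := card_orb hb S (show 3 < 8 by norm_num) rfl
      have h5 := card_orb hb S (show 5 < 8 by norm_num) rfl
      have h6 := card_orb hb S (show 6 < 8 by norm_num) rfl
      have h7 := card_orb hb S (show 7 < 8 by norm_num) rfl
      simp only [List.getD_cons_succ, List.getD_cons_zero, hX] at h3 h5 h6 h7
      rw [z_lists.1]
      omega
    · refine Finset.disjoint_union_left.2 ⟨?_, ?_⟩ <;> refine Finset.disjoint_union_right.2 ⟨?_, ?_⟩ <;>
        exact hdisj _ _ (by norm_num) (by norm_num) (by norm_num)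

variable (hC : I.IsOrbList true) (hb : I.Bit true) (S : I.Sides)
include hC hb S

theorem card_orb_true : Nat.card I.Xt = 7680 ∧ Nat.card {u : G // I.Orb 5 u} = 30 ∧
    Nat.card {u : G // I.Orb 7 u} = 60 := by
  have hX : Nat.card I.Xt = 7680 := by rw [card_Xt hC hb S, rl_length.2]
  have h5 := card_orb hb S (show 5 < 8 by norm_num) rfl
  have h7 := card_orb hb S (show 7 < 8 by norm_num) rfl
  simp only [List.getD_cons_succ, List.getD_cons_zero, hX] at h5 h7
  omega

/-- The orbit of the eighth class in the centralizer of `z`. -/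
theorem orb_seven_iff {a : Mdl} : I.Orb 7 (I.ι a) ↔ code a ∈ farL true := by
  rw [farL, mem_zt_cwL, Bool.and_eq_true, Bool.and_eq_true, Bool.not_eq_true', Bool.not_eq_true',
    ← Bool.not_eq_true, ← Bool.not_eq_true, hb, ← code_rep (show 3 < 8 by norm_num), ← code_mul, hb, memL_iff]
  constructor
  · intro h
    refine ⟨I.isInv_of_zType h.isConj, I.ι_comm_iff.1 h.comm, h.isConj, fun hz => ?_, fun hr => ?_⟩
    · have := (h.isConj_mul_t3 hb (by norm_num) (by norm_num)).1 (by rwa [t3, ← map_mul])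
      simp [S2, inS, swap45] at this
    · exact absurd (h.unique (by norm_num) (by norm_num) ((hC _).2 ⟨a, hr, rfl⟩)) (by norm_num)
  · rintro ⟨-, h2, h3, h4, h5⟩
    obtain ⟨i, hi, hi', h⟩ := exists_orb hb S h3 (I.ι_comm_iff.2 h2)
    rcases hi with rfl | rfl | rfl | rfl
    · obtain ⟨c, hc, e⟩ := (hC _).1 h
      exact absurd (I.ι_inj e ▸ hc) h5
    · have := (h.isConj_mul_t3 hb (by norm_num) (by norm_num)).2 (by simp [S2, inS, swap45])
      rw [t3, ← map_mul] at this
      exact absurd this h4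
    · simp [S2, inS] at hi'
    · exact h

/-- A conjugate of `z` fixes the orbit or lies in the orbit of the eighth class. -/
theorem comm_all_or_far {u : G} (hu : IsConj z u) (hut : u * I.t3 = I.t3 * u) :
    (∀ r, I.Orb 3 r → r * u = u * r) ∨ I.Orb 7 u := by
  obtain ⟨i, hi, hi', h⟩ := exists_orb hb S hu hut
  rcases hi with rfl | rfl | rfl | rfl
  · refine Or.inl fun r hr => ?_
    obtain ⟨a, ha, rfl⟩ := (hC u).1 h
    obtain ⟨c, hc, rfl⟩ := (hC r).1 hr
    exact I.ι_comm_iff.2 (rl_comm hc ha)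
  · refine Or.inl fun r hr => comm_all_of_count hC (I.Orb 5) (fun g hg u hu => hu.conj hg) (nearL true)
      (cwL_nodup.filter _) (fun a ha => inK_cwL (List.mem_filter.1 ha).1) ?_
      ((card_orb_true hC hb S).2.1.trans z_lists.2.symm) h hr
    intro a
    rw [nearL, mem_zt_cwL, Bool.and_eq_true, hb, ← code_rep (show 3 < 8 by norm_num), ← code_mul, hb]
    constructor
    · intro h
      refine ⟨I.isInv_of_zType h.isConj, I.ι_comm_iff.1 h.comm, h.isConj, ?_⟩
      have := (h.isConj_mul_t3 hb (by norm_num) (by norm_num)).2 (by simp [S2, inS, swap45])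
      rwa [t3, ← map_mul] at this
    · rintro ⟨-, h2, h3, h4⟩
      obtain ⟨j, hj, hj', h⟩ := exists_orb hb S h3 (I.ι_comm_iff.2 h2)
      have h4' := (h.isConj_mul_t3 hb (by omega) (by omega)).1 (by rwa [t3, ← map_mul])
      rcases hj with rfl | rfl | rfl | rfl
      · simp [S2, inS, swap45] at h4'
      · exact h
      · simp [S2, inS] at hj'
      · simp [S2, inS, swap45] at h4'
  · simp [S2, inS] at hi'
  · exact Or.inr h

theorem not_comm_all {u : G} (h : I.Orb 7 u) : ¬ ∀ r, I.Orb 3 r → r * u = u * r := by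
  intro hall
  obtain ⟨a, rfl⟩ := I.exists_ι (hall z ⟨1, by group, by rw [t3]; group⟩).symm
  have hc := List.all_eq_true.1 far_check _ ((orb_seven_iff hC hb S).1 h)
  rw [(comm_ι_iff hC).1 hall] at hc
  simp at hc

theorem far_transfer {r u w : G} (hr : I.Orb 3 r) (hu : I.Orb 7 u) (hru : r * u = u * r) (hw : I.Orb 7 w)
    (hrw : r * w = w * r) : ∃ g ∈ I.Xt, ∃ a c : Mdl, code a ∈ farL true ∧ code c ∈ farL true ∧
      I.ι a = g⁻¹ * u * g ∧ I.ι c = g⁻¹ * w * g := by
  obtain ⟨g, hg, rfl⟩ := orbR_trans hC ((mem_orbR hC).2 hr)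
  have key : ∀ v : G, I.Orb 7 v → g * z * g⁻¹ * v = v * (g * z * g⁻¹) →
      ∃ a : Mdl, code a ∈ farL true ∧ I.ι a = g⁻¹ * v * g := by
    intro v hv hc
    obtain ⟨a, ha⟩ := I.exists_ι (x := g⁻¹ * v * g) (by
      calc g⁻¹ * v * g * z = g⁻¹ * (v * (g * z * g⁻¹)) * g := by group
        _ = _ := by rw [← hc]; group)
    refine ⟨a, (orb_seven_iff hC hb S).1 ?_, ha⟩
    have := hv.conj (inv_mem hg)
    rwa [inv_inv, ← ha] at this
  obtain ⟨a, ha, ha'⟩ := key u hu hru
  obtain ⟨c, hc, hc'⟩ := key w hw hrw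
  exact ⟨g, hg, a, c, ha, hc, ha', hc'⟩

/-- Two members of the orbit of the eighth class with a common fixed point commute. -/
theorem far_comm_of_fixed {r u w : G} (hr : I.Orb 3 r) (hu : I.Orb 7 u) (hru : r * u = u * r) (hw : I.Orb 7 w)
    (hrw : r * w = w * r) : u * w = w * u := by
  obtain ⟨g, -, a, c, ha, hc, ha', hc'⟩ := far_transfer hC hb S hr hu hru hw hrw
  have h := List.all_eq_true.1 far_check _ ha
  rw [Bool.and_eq_true] at h
  have h' := List.all_eq_true.1 h.2 _ hc
  rw [Bool.and_eq_true] at h'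
  have := I.ι_comm_iff.2 (cm_code.1 h'.1)
  rw [ha', hc'] at this
  calc u * w = g * (g⁻¹ * u * g * (g⁻¹ * w * g)) * g⁻¹ := by group
    _ = _ := by rw [this]; group

/-- An involution outside the class of `z`, also after multiplying by the one of the second class, that is
the product of two commuting members of the orbit of the eighth class fixes only their common points. -/
theorem far_fixed {r u w : G} (hr : I.Orb 3 r) (hu : I.Orb 7 u) (hru : r * u = u * r) (hw : I.Orb 7 w)
    (hrw : r * w = w * r) (hne : u ≠ w) (h1 : ¬ IsConj z (u * w)) (h2 : ¬ IsConj z (u * w * I.t3))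
    {r' : G} (hr' : I.Orb 3 r') (hc : r' * (u * w) = u * w * r') : r' * u = u * r' := by
  obtain ⟨g, hg, a, c, ha, hcl, ha', hc'⟩ := far_transfer hC hb S hr hu hru hw hrw
  obtain ⟨d, hd, hd'⟩ := (hC _).1 (hr'.conj (inv_mem hg))
  rw [inv_inv] at hd'
  have h := List.all_eq_true.1 far_check _ ha
  rw [Bool.and_eq_true] at h
  have h' := List.all_eq_true.1 h.2 _ hcl
  simp only [Bool.and_eq_true, Bool.or_eq_true] at h'
  have hprod : I.ι (a * c) = g⁻¹ * (u * w) * g := by rw [map_mul, ha', hc']; group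
  have hgt : g⁻¹ * I.t3 * g = I.t3 := by
    rw [mul_assoc, ← mem_Xt.1 hg]; group
  rcases h'.2 with ((e | e) | e) | e
  · refine absurd ?_ hne
    have := code_inj (Nat.eq_of_beq_eq_true e)
    rw [this, hc'] at ha'
    exact (mul_left_cancel (mul_right_cancel ha')).symm
  · rw [← code_mul, hb] at e
    exact absurd (IsConj.trans e (isConj_iff.2 ⟨g, by rw [hprod]; group⟩)) h1
  · rw [← code_rep (show 3 < 8 by norm_num), ← code_mul, ← code_mul, hb] at e
    refine absurd (IsConj.trans e (isConj_iff.2 ⟨g, ?_⟩)) h2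
    rw [map_mul I.ι (a * c) (rep 3), hprod, ← t3]
    nth_rewrite 1 [← hgt]
    group
  · have := List.all_eq_true.1 e _ hd
    rw [Bool.or_eq_true, Bool.not_eq_true', ← Bool.not_eq_true, ← code_mul, cm_code, cm_code] at this
    rcases this with h3 | h3
    · refine absurd (I.ι_comm_iff.1 ?_) h3
      rw [← hd', hprod]
      calc g⁻¹ * r' * g * (g⁻¹ * (u * w) * g) = g⁻¹ * (r' * (u * w)) * g := by group
        _ = _ := by rw [hc]; group
    · have := I.ι_comm_iff.2 h3
      rw [← hd', ha'] at this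
      calc r' * u = g * (g⁻¹ * r' * g * (g⁻¹ * u * g)) * g⁻¹ := by group
        _ = _ := by rw [this]; group

/-- Two members of the orbit of the eighth class with product of even order commute. -/
theorem far_comm {u w : G} (hu : I.Orb 7 u) (hw : I.Orb 7 w) (heven : Even (orderOf (u * w))) :
    u * w = w * u := by
  classical
  have hu2 := sq_of_isConj I.z_sq hu.isConj
  have hw2 := sq_of_isConj I.z_sq hw.isConj
  have ht2 := I.t3_sq
  have hX : u * w ∈ I.Xt := mul_mem (mem_Xt.2 hu.comm) (mem_Xt.2 hw.comm)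
  obtain ⟨k, hk⟩ := heven
  have hk0 : 0 < k := by have := orderOf_pos (u * w); omega
  set m := (u * w) ^ k with hm
  have hm2 : m * m = 1 := by rw [hm, ← pow_add, ← hk, pow_orderOf_eq_one]
  have hm1 : m ≠ 1 := pow_ne_one_of_lt_orderOf (by omega) (by omega)
  obtain ⟨hmu, hmw⟩ := comm_of_mem_zpowers hu2 hw2 hm2 (pow_mem (mem_zpowers _) k)
  have hmX : m ∈ I.Xt := pow_mem hX k
  have hmt := mem_Xt.1 hmX
  have hum : I.Orb 7 (u * m) := by
    rcases Nat.even_or_odd k with ⟨j, hj⟩ | ⟨j, hj⟩
    · have := hu.conj (inv_mem (pow_mem hX j))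
      rw [inv_inv, mul_pow_even hu2 hw2, ← hj] at this
      exact this
    · have := hw.conj (inv_mem (pow_mem hX j))
      rw [inv_inv, mul_pow_odd hu2 hw2, show j + j + 1 = k by omega] at this
      exact this
  have hmt1 : m ≠ I.t3 := by
    intro e
    have h := (hu.isConj_mul_t3 hb (by norm_num) (by norm_num)).1 (e ▸ hum.isConj)
    simp [S2, inS, swap45] at h
  have hmm : m * I.t3 * (m * I.t3) = 1 := by
    rw [show m * I.t3 * (m * I.t3) = m * (I.t3 * m) * I.t3 by group, ← hmt, ← mul_assoc, hm2, one_mul, ht2]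
  -- a common fixed point when a conjugate of `z` is in the middle
  have key : ∀ d : G, IsConj z d → d * I.t3 = I.t3 * d → d * u = u * d → d * w = w * d → u * w = w * u := by
    intro d hd hdt hdu hdw
    have : Fact (Nat.Prime 2) := ⟨Nat.prime_two⟩
    set K := centralizer ({d, I.t3} : Set G) with hK
    have hKX : K ≤ I.Xt := centralizer_le (by simp)
    let act : MulAction K {r : G // r ∈ I.orbR true} :=
      { smul := fun g r => ⟨(g : G) * r.1 * (g : G)⁻¹, orbR_conj hC (hKX g.2) r.2⟩
        one_smul := fun r => Subtype.ext (show ((1 : K) : G) * r.1 * ((1 : K) : G)⁻¹ = r.1 by simp)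
        mul_smul := fun g g' r => Subtype.ext (show ((g * g' : K) : G) * r.1 * ((g * g' : K) : G)⁻¹ =
          (g : G) * ((g' : G) * r.1 * (g' : G)⁻¹) * (g : G)⁻¹ by simp [mul_assoc]) }
    obtain ⟨r, hr⟩ := (isPGroup_two hb S hd hdt).nonempty_fixed_point_of_prime_not_dvd_card
      {r : G // r ∈ I.orbR true} (by
        rw [Nat.card_eq_finsetCard, card_orbR, rl_length.2]; norm_num)
    have memK : ∀ x : G, d * x = x * d → x * I.t3 = I.t3 * x → x ∈ K := by
      intro x h1 h2
      rw [hK, mem_centralizer_iff]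
      rintro y (rfl | rfl)
      · exact h1
      · exact h2.symm
    have fx : ∀ x : G, x ∈ K → r.1 * x = x * r.1 := fun x hx =>
      (mul_inv_eq_iff_eq_mul.1 (congrArg (fun q : {r : G // r ∈ I.orbR true} => q.1) (hr ⟨x, hx⟩))).symm
    exact far_comm_of_fixed hC hb S ((mem_orbR hC).1 r.2) hu (fx u (memK u hdu hu.comm)) hw
      (fx w (memK w hdw hw.comm))
  by_cases h1 : IsConj z m
  · exact key m h1 hmt hmu hmw
  by_cases h2 : IsConj z (m * I.t3)
  · refine key _ h2 (by rw [mul_assoc, ht2, mul_one, ← mul_assoc, ← hmt, mul_assoc, ht2, mul_one]) ?_ ?_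
    · rw [mul_assoc, ← hu.comm, ← mul_assoc, hmu, mul_assoc]
    · rw [mul_assoc, ← hw.comm, ← mul_assoc, hmw, mul_assoc]
  -- otherwise the middle and `u` have the same fixed points
  have hodd : Odd ((I.orbR true).filter fun r => u * r = r * u).card :=
    odd_fixed _ odd_orbR hu2 fun r hr => orbR_conj hC (mem_Xt.2 hu.comm) hr
  have hodd' : Odd ((I.orbR true).filter fun r => m * r = r * m).card :=
    odd_fixed _ odd_orbR hm2 fun r hr => orbR_conj hC hmX hr
  obtain ⟨r, hr, hr1⟩ := exists_orbR_fixed hC hm2 hmt ((I.orbR true).filter fun r => u * r = r * u)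
    (Finset.filter_subset _ _) hodd (fun r hr h => Finset.mem_filter.2 ⟨h, by
      have h' := (Finset.mem_filter.1 hr).2
      calc u * (m * r * m⁻¹) = u * m * r * m⁻¹ := by group
        _ = m * (u * r) * m⁻¹ := by rw [← hmu]; group
        _ = m * r * (u * m⁻¹) := by rw [h']; group
        _ = _ := by rw [inv_eq_of_mul_eq_one_right hm2, ← hmu]; group⟩)
  obtain ⟨hr3, hr2⟩ := Finset.mem_filter.1 hr
  have hrum : r * (u * m) = u * m * r := by rw [← mul_assoc, ← hr2, mul_assoc, ← hr1, ← mul_assoc]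
  have hne : u ≠ u * m := fun e => hm1 (mul_left_cancel ((mul_one u).trans e)).symm
  have e0 : u * (u * m) = m := by rw [← mul_assoc, hu2, one_mul]
  obtain ⟨r', hr', hr'w⟩ := exists_orbR_fixed hC hw2 hw.comm ((I.orbR true).filter fun r => m * r = r * m)
    (Finset.filter_subset _ _) hodd' (fun x hx h => Finset.mem_filter.2 ⟨h, by
      have h' := (Finset.mem_filter.1 hx).2
      calc m * (w * x * w⁻¹) = m * w * x * w⁻¹ := by group
        _ = w * (m * x) * w⁻¹ := by rw [hmw]; group
        _ = w * x * (m * w⁻¹) := by rw [h']; group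
        _ = _ := by rw [inv_eq_of_mul_eq_one_right hw2, hmw]; group⟩)
  obtain ⟨hr'3, hr'm⟩ := Finset.mem_filter.1 hr'
  refine far_comm_of_fixed hC hb S ((mem_orbR hC).1 hr'3) hu ?_ hw hr'w.symm
  exact far_fixed hC hb S ((mem_orbR hC).1 hr3) hu hr2.symm hum hrum hne (by rw [e0]; exact h1)
    (by rw [e0]; exact h2) ((mem_orbR hC).1 hr'3) (by rw [e0]; exact hr'm.symm)

end Iso

end Cfsg.Agent.HeLocal
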