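import Cfsg.Agent.Lib.HeLocal.Count.Total
import Cfsg.Agent.Lib.HeLocal.CentT.Main

/-!
# The order of the group in the two patterns other than the one of Held
-/

set_option autoImplicit false

namespace Cfsg.Agent.HeLocal

open Code
open Cfsg.Agent.HeLocal.Count

attribute [local irreducible] rep el code

theorem Count.rl_eq_rs : ∀ b : Bool, rl b = rs b := by decide

namespace Iso

variable {G : Type*} [Group G] [Finite G] {z : G} {I : Iso z}

/-- The orbit list. -/
theorem isOrbList_of_pat {b : Bool} (hP : I.Pat b) : I.IsOrbList b := by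
  intro y
  have e : I.Orb 3 y ↔ I.InR y :=
    ⟨fun ⟨g, h1, h2⟩ => ⟨g, h1, mul_inv_eq_iff_eq_mul.1 h2⟩,
      fun ⟨g, h1, h2⟩ => ⟨g, h1, mul_inv_eq_iff_eq_mul.2 h2⟩⟩
  rw [e, I.inR_iff hP, rl_eq_rs]
  exact ⟨fun ⟨a, ha, h⟩ => ⟨a, ha, h.symm⟩, fun ⟨a, ha, h⟩ => ⟨a, ha, h.symm⟩⟩

variable (I) in
/-- The order of a group in the pattern of the linear group or of the Mathieu group. -/
theorem card_of_pattern (S : I.Sides) (h7 : ¬ I.ZType (rep 7)) :
    (¬ I.ZType (rep 6) → Nat.card G = 9999360) ∧ (I.ZType (rep 6) → Nat.card G = 244823040) := by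
  constructor
  · intro h6
    have h : false = true ↔ I.ZType (rep 6) := iff_of_false Bool.false_ne_true h6
    exact card_eq (isOrbList_of_pat (I.pat_of S h7 h)) (I.bit_of S h7 h) S
  · intro h6
    have h : true = true ↔ I.ZType (rep 6) := iff_of_true rfl h6
    exact card_eq (isOrbList_of_pat (I.pat_of S h7 h)) (I.bit_of S h7 h) S

variable (I) in
/-- The three patterns: the linear group, the Mathieu group (either normalization), or the one of Held. -/
theorem card_trichotomy (S : I.Sides) :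
    ((¬ I.ZType (rep 6) ∧ ¬ I.ZType (rep 7)) ∧ Nat.card G = 9999360) ∨
      ((I.ZType (rep 6) ∧ ¬ I.ZType (rep 7) ∨ I.ZType (rep 7) ∧ ¬ I.ZType (rep 6)) ∧ Nat.card G = 244823040) ∨
      Nonempty (Setting z) := by
  by_cases h7 : I.ZType (rep 7)
  · by_cases h6 : I.ZType (rep 6)
    · exact Or.inr (Or.inr (I.setting_of_pattern S h6 h7))
    · refine Or.inr (Or.inl ⟨Or.inr ⟨h7, h6⟩, (I.swap.card_of_pattern (I.swap_sides S) ?_).2 ?_⟩)
      · exact fun h => h6 ((I.swap_zType (by norm_num)).1 h)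
      · exact (I.swap_zType (by norm_num)).2 h7
  · by_cases h6 : I.ZType (rep 6)
    · exact Or.inr (Or.inl ⟨Or.inl ⟨h6, h7⟩, (I.card_of_pattern S h7).2 h6⟩)
    · exact Or.inl ⟨⟨h6, h7⟩, (I.card_of_pattern S h7).1 h6⟩

end Iso

end Cfsg.Agent.HeLocal
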