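import Cfsg.Agent.Lib.HeLocal.Count.Centre

/-!
# The orbits of the centralizer of the second class on the conjugates of the centre
-/

set_option autoImplicit false

namespace Cfsg.Agent.HeLocal

open Subgroup Code
open Cfsg.Agent.HeLocal.Count

attribute [local irreducible] rep el code

namespace Iso

variable {G : Type*} [Group G] {z : G} (I : Iso z)

/-- `u` and the involution of the second class are the images of `z` and of a representative. -/
def Orb (i : ℕ) (u : G) : Prop := ∃ g : G, g * z * g⁻¹ = u ∧ g * I.ι (rep i) * g⁻¹ = I.t3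

/-- The orbit of `z` under the centralizer of the second class is the given list. -/
def IsOrbList (b : Bool) : Prop := ∀ y : G, I.Orb 3 y ↔ ∃ a : Mdl, code a ∈ rl b ∧ y = I.ι a

/-- The centralizer of the involution of the second class. -/
noncomputable def Xt : Subgroup G := centralizer ({I.t3} : Set G)

variable {I}

theorem mem_Xt {g : G} : g ∈ I.Xt ↔ g * I.t3 = I.t3 * g := mem_centralizer_singleton_iff

theorem Orb.conj {i : ℕ} {u g : G} (h : I.Orb i u) (hg : g ∈ I.Xt) : I.Orb i (g * u * g⁻¹) := by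
  obtain ⟨c, h1, h2⟩ := h
  refine ⟨g * c, by rw [← h1]; group, ?_⟩
  rw [show g * c * I.ι (rep i) * (g * c)⁻¹ = g * (c * I.ι (rep i) * c⁻¹) * g⁻¹ by group, h2,
    mem_Xt.1 hg, mul_inv_cancel_right]

theorem Orb.comm {i : ℕ} {u : G} (h : I.Orb i u) : u * I.t3 = I.t3 * u := by
  obtain ⟨c, h1, h2⟩ := h
  rw [← h1, ← h2, show c * z * c⁻¹ * (c * I.ι (rep i) * c⁻¹) = c * (z * I.ι (rep i)) * c⁻¹ by group,
    ← I.ι_comm]
  group

theorem Orb.isConj {i : ℕ} {u : G} (h : I.Orb i u) : IsConj z u := by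
  obtain ⟨c, h1, -⟩ := h
  exact isConj_iff.2 ⟨c, h1⟩

theorem Orb.unique {i j : ℕ} (hi : i < 8) (hj : j < 8) {u : G} (h : I.Orb i u) (h' : I.Orb j u) : i = j := by
  obtain ⟨c, h1, h2⟩ := h
  obtain ⟨d, h3, h4⟩ := h'
  obtain ⟨q, hq⟩ := I.exists_ι (x := c⁻¹ * d) (by
    calc c⁻¹ * d * z = c⁻¹ * (d * z * d⁻¹) * d := by group
      _ = c⁻¹ * (c * z * c⁻¹) * d := by rw [h3, h1]
      _ = _ := by group)
  have e : q * rep j * q⁻¹ = rep i := I.ι_inj (by
    rw [map_mul, map_mul, map_inv, hq, show c⁻¹ * d * I.ι (rep j) * (c⁻¹ * d)⁻¹ =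
      c⁻¹ * (d * I.ι (rep j) * d⁻¹) * c by group, h4, ← h2]
    group)
  have := tag_conj (isInv_rep hj) q
  rw [e, tag_rep hi, tag_rep hj] at this
  exact this

theorem Orb.mul_t3 {i : ℕ} {u : G} (h : I.Orb i u) : ∃ c : G, c * I.ι (zc * rep i) * c⁻¹ = u * I.t3 := by
  obtain ⟨c, h1, h2⟩ := h
  exact ⟨c, by rw [map_mul, ι_zc, ← h1, ← h2]; group⟩

variable {b : Bool} (hb : I.Bit b) (S : I.Sides)
include hb

theorem Orb.isConj_mul_t3 {i : ℕ} (hi : i < 8) (h0 : i ≠ 0) {u : G} (h : I.Orb i u) :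
    IsConj z (u * I.t3) ↔ S2 b (swap45 i) = true := by
  obtain ⟨c, hc⟩ := h.mul_t3
  have hs : swap45 i < 8 := by unfold swap45; split_ifs <;> omega
  obtain ⟨h1, h2⟩ := tag_zmul (isInv_rep hi) (by rwa [tag_rep hi])
  rw [tag_rep hi] at h2
  rw [I.zt_rep hb hs, ← h2, ← I.zType_iff_rep h1]
  exact ⟨fun h => h.trans (isConj_iff.2 ⟨c⁻¹, by rw [← hc]; group⟩),
    fun h => h.trans (isConj_iff.2 ⟨c, hc⟩)⟩

variable [Finite G]

include S

theorem exists_orb {u : G} (hu : IsConj z u) (hut : u * I.t3 = I.t3 * u) :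
    ∃ i, (i = 3 ∨ i = 5 ∨ i = 6 ∨ i = 7) ∧ S2 b i = false ∧ I.Orb i u := by
  obtain ⟨g, hg⟩ := isConj_iff.1 hu
  obtain ⟨a, ha⟩ := I.exists_ι (x := g⁻¹ * I.t3 * g) (by
    calc g⁻¹ * I.t3 * g * z = g⁻¹ * (I.t3 * (g * z * g⁻¹)) * g := by group
      _ = g⁻¹ * (g * z * g⁻¹ * I.t3) * g := by rw [hg, hut]
      _ = _ := by group)
  have hc : IsConj I.t3 (I.ι a) := isConj_iff.2 ⟨g⁻¹, by rw [ha]; group⟩
  obtain ⟨hai, haz⟩ := (I.isConj_t3_iff S).1 hc
  obtain ⟨k, hk⟩ := exists_conj_rep hai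
  have h8 := tag_lt hai
  have hf : S2 b (tag a) = false :=
    Bool.eq_false_iff.2 fun h => haz ((I.zType_iff_rep hai).2 ((I.zt_rep hb h8).1 h))
  refine ⟨tag a, ?_, hf, g * I.ι k, ?_, ?_⟩
  · revert hf h8
    generalize tag a = i
    intro h8 hf
    interval_cases i <;> simp [S2, inS] at hf ⊢
  · rw [← hg, show g * I.ι k * z * (g * I.ι k)⁻¹ = g * (I.ι k * z) * (I.ι k)⁻¹ * g⁻¹ by group, I.ι_comm k]
    group
  · rw [show g * I.ι k * I.ι (rep (tag a)) * (g * I.ι k)⁻¹ = g * I.ι (k * rep (tag a) * k⁻¹) * g⁻¹ by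
      rw [map_mul, map_mul, map_inv]; group, hk, ha]
    group

theorem card_orb {i : ℕ} (hi : i < 8) (h0 : S2 b i = false) :
    Nat.card {u : G // I.Orb i u} * ([21504, 1536, 1536, 512, 256, 256, 128, 128] : List ℕ).getD i 0 =
      Nat.card I.Xt := by
  classical
  have hz : ¬ I.ZType (rep i) := fun h => Bool.false_ne_true (h0.symm.trans ((I.zt_rep hb hi).2 h))
  obtain ⟨g0, hg0⟩ := isConj_iff.1 ((I.isConj_t3_iff S).2 ⟨isInv_rep hi, hz⟩).symm
  let act : MulAction I.Xt G := MulAction.compHom G ((ConjAct.toConjAct (G := G)).toMonoidHom.comp I.Xt.subtype)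
  have hsmul : ∀ (x : I.Xt) (y : G), x • y = (x : G) * y * (x : G)⁻¹ := fun x y => by
    show ConjAct.toConjAct (x : G) • y = _
    rw [ConjAct.smul_def, ConjAct.ofConjAct_toConjAct]
  set u0 := g0 * z * g0⁻¹ with hu0
  have horb : ∀ u, I.Orb i u ↔ u ∈ MulAction.orbit I.Xt u0 := by
    intro u
    rw [MulAction.mem_orbit_iff]
    constructor
    · rintro ⟨c, h1, h2⟩
      refine ⟨⟨c * g0⁻¹, mem_Xt.2 ?_⟩, ?_⟩
      · conv_lhs => rw [← hg0]
        conv_rhs => rw [← h2]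
        group
      · rw [hsmul, hu0, ← h1]; simp only; group
    · rintro ⟨x, rfl⟩
      rw [hsmul]
      exact Orb.conj ⟨g0, rfl, hg0⟩ x.2
  have h := (MulAction.stabilizer I.Xt u0).index_mul_card
  rw [MulAction.index_stabilizer, ← Nat.card_coe_set_eq] at h
  rw [← h, show Nat.card {u : G // I.Orb i u} = Nat.card (MulAction.orbit I.Xt u0) from
    Nat.card_congr (Equiv.subtypeEquivRight horb)]
  congr 1
  have hce := card_cent_eq (isInv_rep hi)
  rw [tag_rep hi] at hce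
  rw [← hce]
  have hmem : ∀ q : centralizer ({rep i} : Set Mdl), g0 * I.ι (q : Mdl) * g0⁻¹ ∈ I.Xt := by
    intro q
    have hq := mem_centralizer_singleton_iff.1 q.2
    rw [mem_Xt, ← hg0, show g0 * I.ι (q : Mdl) * g0⁻¹ * (g0 * I.ι (rep i) * g0⁻¹) =
      g0 * (I.ι (q : Mdl) * I.ι (rep i)) * g0⁻¹ by group, I.ι_comm_iff.2 hq]
    group
  let f : centralizer ({rep i} : Set Mdl) → MulAction.stabilizer I.Xt u0 := fun q =>
    ⟨⟨g0 * I.ι (q : Mdl) * g0⁻¹, hmem q⟩, by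
      rw [MulAction.mem_stabilizer_iff, hsmul, hu0]
      show g0 * I.ι (q : Mdl) * g0⁻¹ * (g0 * z * g0⁻¹) * (g0 * I.ι (q : Mdl) * g0⁻¹)⁻¹ = g0 * z * g0⁻¹
      rw [show g0 * I.ι (q : Mdl) * g0⁻¹ * (g0 * z * g0⁻¹) * (g0 * I.ι (q : Mdl) * g0⁻¹)⁻¹ =
        g0 * (I.ι (q : Mdl) * z) * (I.ι (q : Mdl))⁻¹ * g0⁻¹ by group, I.ι_comm]
      group⟩
  refine Nat.card_eq_of_bijective f ⟨fun q r hqr => ?_, fun x => ?_⟩
  · have h' : g0 * I.ι (q : Mdl) * g0⁻¹ = g0 * I.ι (r : Mdl) * g0⁻¹ :=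
      congrArg (fun w : MulAction.stabilizer I.Xt u0 => ((w : I.Xt) : G)) hqr
    exact Subtype.ext (I.ι_inj (mul_left_cancel (mul_right_cancel h')))
  · have hx : ((x : I.Xt) : G) * u0 * ((x : I.Xt) : G)⁻¹ = u0 := by
      rw [← hsmul]; exact MulAction.mem_stabilizer_iff.1 x.2
    have key : ∀ y : G, y * (g0 * z * g0⁻¹) * y⁻¹ = g0 * z * g0⁻¹ →
        g0⁻¹ * y * g0 * z = z * (g0⁻¹ * y * g0) := by
      intro y hy
      calc g0⁻¹ * y * g0 * z = g0⁻¹ * (y * (g0 * z * g0⁻¹) * y⁻¹) * y * g0 := by group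
        _ = _ := by rw [hy]; group
    obtain ⟨q, hq⟩ := I.exists_ι (x := g0⁻¹ * ((x : I.Xt) : G) * g0) (key _ hx)
    refine ⟨⟨q, mem_centralizer_singleton_iff.2 (I.ι_comm_iff.1 ?_)⟩, Subtype.ext (Subtype.ext ?_)⟩
    · have hxt := mem_Xt.1 (x : I.Xt).2
      calc I.ι q * I.ι (rep i) = g0⁻¹ * (((x : I.Xt) : G) * (g0 * I.ι (rep i) * g0⁻¹)) * g0 := by
            rw [hq]; group
        _ = g0⁻¹ * (g0 * I.ι (rep i) * g0⁻¹ * ((x : I.Xt) : G)) * g0 := by rw [hg0, hxt]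
        _ = _ := by rw [hq]; group
    · show g0 * I.ι q * g0⁻¹ = _
      rw [hq]; group

/-- The joint centralizer with a conjugate of `z` is a two group. -/
theorem isPGroup_two {w : G} (hw : IsConj z w) (hwt : w * I.t3 = I.t3 * w) :
    IsPGroup 2 ↥(centralizer ({w, I.t3} : Set G)) := by
  obtain ⟨i, hi, -, g, h1, h2⟩ := exists_orb hb S hw hwt
  have hi8 : i < 8 := by omega
  let f : centralizer ({rep i} : Set Mdl) →* G :=
    ((MulAut.conj g).toMonoidHom.comp I.ι).comp (centralizer ({rep i} : Set Mdl)).subtype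
  have hle : centralizer ({w, I.t3} : Set G) ≤ f.range := by
    intro x hx
    have hxw : w * x = x * w := mem_centralizer_iff.1 hx w (Or.inl rfl)
    have hxt : I.t3 * x = x * I.t3 := mem_centralizer_iff.1 hx _ (Or.inr rfl)
    obtain ⟨q, hq⟩ := I.exists_ι (x := g⁻¹ * x * g) (by
      calc g⁻¹ * x * g * z = g⁻¹ * (x * (g * z * g⁻¹)) * g := by group
        _ = g⁻¹ * (g * z * g⁻¹ * x) * g := by rw [h1, hxw]
        _ = _ := by group)
    refine ⟨⟨q, mem_centralizer_singleton_iff.2 (I.ι_comm_iff.1 ?_)⟩, ?_⟩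
    · calc I.ι q * I.ι (rep i) = g⁻¹ * (x * (g * I.ι (rep i) * g⁻¹)) * g := by rw [hq]; group
        _ = g⁻¹ * (g * I.ι (rep i) * g⁻¹ * x) * g := by rw [h2, hxt]
        _ = _ := by rw [hq]; group
    · show g * I.ι q * g⁻¹ = x
      rw [hq]; group
  have h2g : IsPGroup 2 ↥(centralizer ({rep i} : Set Mdl)) := by
    have hce := card_cent_eq (isInv_rep hi8)
    rw [tag_rep hi8] at hce
    rcases hi with rfl | rfl | rfl | rfl
    · exact IsPGroup.of_card (n := 9) (by rw [hce]; rfl)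
    · exact IsPGroup.of_card (n := 8) (by rw [hce]; rfl)
    · exact IsPGroup.of_card (n := 7) (by rw [hce]; rfl)
    · exact IsPGroup.of_card (n := 7) (by rw [hce]; rfl)
  exact (h2g.of_surjective f.rangeRestrict f.rangeRestrict_surjective).to_le hle

end Iso

end Cfsg.Agent.HeLocal
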