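import Cfsg.Agent.Lib.HeLocal.Count.Orbit

/-!
# The pairs attached to the second class, through the fixed points in the orbit of `z`
-/

set_option autoImplicit false

namespace Cfsg.Agent.HeLocal

open Subgroup Code
open Cfsg.Agent.HeLocal.Count

attribute [local irreducible] rep el code

namespace Count

theorem inK_rl {b : Bool} {a : ℕ} (h : a ∈ rl b) : inK a = true := by
  have := List.all_eq_true.1 (rl_check b).1 a h
  simp only [Bool.and_eq_true] at this
  exact this.1.1.1.1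

theorem rl_comm {b : Bool} {a c : Mdl} (ha : code a ∈ rl b) (hc : code c ∈ rl b) : a * c = c * a := by
  have := List.all_eq_true.1 (rl_check b).1 _ ha
  simp only [Bool.and_eq_true] at this
  exact cm_code.1 (List.all_eq_true.1 this.2 _ hc)

theorem allR_iff {b : Bool} {a : Mdl} : allR b (code a) = true ↔ ∀ c : Mdl, code c ∈ rl b → c * a = a * c := by
  rw [allR, List.all_eq_true]
  refine ⟨fun h c hc => cm_code.1 (h _ hc), fun h r hr => ?_⟩
  rw [← code_el (inK_rl hr)]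
  exact cm_code.2 (h _ (by rwa [code_el (inK_rl hr)]))

theorem mem_zt_cwL {a : Mdl} (f : ℕ → Bool) :
    code a ∈ cwL.filter f ↔ IsInv a ∧ a * rep 3 = rep 3 * a ∧ f (code a) = true := by
  rw [List.mem_filter, mem_cwL, and_assoc]

end Count

namespace Iso

variable {G : Type*} [Group G] {z : G} (I : Iso z)

open Classical in
/-- The orbit of `z`, as a finite set. -/
noncomputable def orbR (b : Bool) : Finset G := ((rl b).map fun a => I.ι (el a)).toFinset

variable {I} {b : Bool} (hC : I.IsOrbList b)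

theorem card_orbR : (I.orbR b).card = (rl b).length := by
  classical
  unfold orbR
  rw [List.toFinset_card_of_nodup, List.length_map]
  refine List.Nodup.map_on (fun x hx y hy h => ?_) (rl_check b).2.1
  exact el_inj (inK_rl hx) (inK_rl hy) (I.ι_inj h)

theorem odd_orbR : Odd (I.orbR b).card := by
  rw [card_orbR]
  rcases b with - | -
  · rw [rl_length.1]; decide
  · rw [rl_length.2]; decide

include hC

theorem mem_orbR {y : G} : y ∈ I.orbR b ↔ I.Orb 3 y := by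
  classical
  rw [orbR, List.mem_toFinset, List.mem_map, hC y]
  constructor
  · rintro ⟨a, ha, rfl⟩
    exact ⟨el a, by rwa [code_el (inK_rl ha)], rfl⟩
  · rintro ⟨a, ha, rfl⟩
    exact ⟨code a, ha, by rw [el_code]⟩

theorem z_mem_orbR : z ∈ I.orbR b := (mem_orbR hC).2 ⟨1, by group, by rw [t3]; group⟩

theorem orbR_conj {g r : G} (hg : g ∈ I.Xt) (hr : r ∈ I.orbR b) : g * r * g⁻¹ ∈ I.orbR b :=
  (mem_orbR hC).2 (((mem_orbR hC).1 hr).conj hg)

theorem orbR_trans {r : G} (hr : r ∈ I.orbR b) : ∃ g ∈ I.Xt, g * z * g⁻¹ = r := by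
  obtain ⟨g, h1, h2⟩ := (mem_orbR hC).1 hr
  exact ⟨g, mem_Xt.2 (mul_inv_eq_iff_eq_mul.1 h2), h1⟩

theorem comm_ι_iff {a : Mdl} : (∀ r, I.Orb 3 r → r * I.ι a = I.ι a * r) ↔ allR b (code a) = true := by
  rw [allR_iff]
  refine ⟨fun h c hc => I.ι_comm_iff.1 (h _ ((hC _).2 ⟨c, hc, rfl⟩)), fun h r hr => ?_⟩
  obtain ⟨c, hc, rfl⟩ := (hC r).1 hr
  exact I.ι_comm_iff.2 (h c hc)

theorem exists_orbR_fixed [DecidableEq G] {u : G} (hu : u * u = 1) (hut : u * I.t3 = I.t3 * u) (s : Finset G)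
    (hs : s ⊆ I.orbR b) (hodd : Odd s.card) (hinv : ∀ r ∈ s, u * r * u⁻¹ ∈ I.orbR b → u * r * u⁻¹ ∈ s) :
    ∃ r ∈ s, u * r = r * u := by
  have h := odd_fixed s hodd hu fun r hr => hinv r hr (orbR_conj hC (mem_Xt.2 hut) (hs hr))
  obtain ⟨r, hr⟩ := Finset.card_pos.1 h.pos
  exact ⟨r, (Finset.mem_filter.1 hr).1, (Finset.mem_filter.1 hr).2⟩

theorem common_card [DecidableEq G] (a v : Mdl) :
    (common (I.orbR b) (I.ι a, I.ι v)).card = fc b (code a, code v) := by
  classical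
  have e : common (I.orbR b) (I.ι a, I.ι v) =
      ((((rl b).filter fun r => cm r (code a) && cm r (code v))).map fun r => I.ι (el r)).toFinset := by
    ext y
    simp only [common, Finset.mem_filter, List.mem_toFinset, List.mem_map, List.mem_filter, mem_orbR hC]
    constructor
    · rintro ⟨h1, h2, h3⟩
      obtain ⟨c, hc, rfl⟩ := (hC y).1 h1
      exact ⟨code c, ⟨hc, by rw [Bool.and_eq_true, cm_code, cm_code]; exact
        ⟨I.ι_comm_iff.1 h2, I.ι_comm_iff.1 h3⟩⟩, by rw [el_code]⟩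
    · rintro ⟨r, ⟨h1, h2⟩, rfl⟩
      rw [← code_el (inK_rl h1), Bool.and_eq_true, cm_code, cm_code] at h2
      exact ⟨(hC _).2 ⟨el r, by rwa [code_el (inK_rl h1)], rfl⟩, I.ι_comm_iff.2 h2.1, I.ι_comm_iff.2 h2.2⟩
  rw [e, List.toFinset_card_of_nodup, List.length_map, fc, List.countP_eq_length_filter]
  refine List.Nodup.map_on (fun x hx y hy h => ?_) ((rl_check b).2.1.filter _)
  exact el_inj (inK_rl (List.mem_filter.1 hx).1) (inK_rl (List.mem_filter.1 hy).1) (I.ι_inj h)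

/-- Pairs with a common fixed point in the orbit, counted by weights in the centralizer of `z`. -/
theorem card_of_list [Finite G] (P : G × G → Prop)
    (hinv : ∀ g ∈ I.Xt, ∀ p, P p → P (g * p.1 * g⁻¹, g * p.2 * g⁻¹))
    (hfix : ∀ p, P p → ∃ r, I.Orb 3 r ∧ r * p.1 = p.1 * r ∧ r * p.2 = p.2 * r)
    (l : List (ℕ × ℕ)) (hnd : l.Nodup) (hK : ∀ q ∈ l, inK q.1 = true ∧ inK q.2 = true)
    (hl : ∀ a v : Mdl, P (I.ι a, I.ι v) ↔ (code a, code v) ∈ l)
    (hw : (l.all fun q => Nat.beq (fc b q * wt b q) (rl b).length) = true) :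
    Nat.card {p // P p} = (l.map (wt b)).sum := by
  classical
  have : Fintype G := Fintype.ofFinite G
  rw [Nat.card_eq_fintype_card, Fintype.card_subtype]
  have hz : ∀ p : G × G, z ∈ common (I.orbR b) p → ∃ a v : Mdl, p = (I.ι a, I.ι v) := by
    intro p hp
    obtain ⟨-, h1, h2⟩ := Finset.mem_filter.1 hp
    obtain ⟨a, ha⟩ := I.exists_ι h1.symm
    obtain ⟨v, hv⟩ := I.exists_ι h2.symm
    exact ⟨a, v, by rw [ha, hv]⟩
  have hbeq : ∀ q ∈ l, fc b q * wt b q = (rl b).length := fun q hq =>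
    Nat.eq_of_beq_eq_true (List.all_eq_true.1 hw q hq)
  rw [card_weighted (I.orbR b) I.Xt z (z_mem_orbR hC) (fun g hg r hr => orbR_conj hC hg hr)
    (fun r hr => orbR_trans hC hr) _ (fun g hg p hp => by
      simp only [Finset.mem_filter, Finset.mem_univ, true_and] at hp ⊢
      exact hinv g hg p hp)
    (fun p hp => by
      obtain ⟨r, h1, h2⟩ := hfix p (Finset.mem_filter.1 hp).2
      exact ⟨r, Finset.mem_filter.2 ⟨(mem_orbR hC).2 h1, h2⟩⟩)
    (fun p hp hzp => by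
      obtain ⟨a, v, rfl⟩ := hz p hzp
      exact ⟨_, by rw [common_card hC, card_orbR, hbeq _ ((hl a v).1 (Finset.mem_filter.1 hp).2)]⟩),
    ← List.sum_toFinset (wt b) hnd]
  refine (Finset.sum_bij (fun q _ => (I.ι (el q.1), I.ι (el q.2))) ?_ ?_ ?_ ?_).symm
  · intro q hq
    rw [List.mem_toFinset] at hq
    have h : (code (el q.1), code (el q.2)) ∈ l := by rwa [code_el (hK q hq).1, code_el (hK q hq).2]
    simp only [Finset.mem_filter, Finset.mem_univ, true_and, common]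
    exact ⟨(hl _ _).2 h, z_mem_orbR hC, (I.ι_comm _).symm, (I.ι_comm _).symm⟩
  · intro q hq r hr h
    rw [List.mem_toFinset] at hq hr
    obtain ⟨h1, h2⟩ := Prod.mk.injEq _ _ _ _ ▸ h
    exact Prod.ext (el_inj (hK q hq).1 (hK r hr).1 (I.ι_inj h1)) (el_inj (hK q hq).2 (hK r hr).2 (I.ι_inj h2))
  · intro p hp
    obtain ⟨h1, h2⟩ := Finset.mem_filter.1 hp
    obtain ⟨a, v, rfl⟩ := hz p h2
    exact ⟨(code a, code v), List.mem_toFinset.2 ((hl a v).1 (Finset.mem_filter.1 h1).2),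
      by rw [el_code, el_code]⟩
  · intro q hq
    rw [List.mem_toFinset] at hq
    rw [common_card hC, card_orbR, code_el (hK q hq).1, code_el (hK q hq).2, wt]

/-- A set of the size of its part in the centralizer of `z` fixes the whole orbit. -/
theorem comm_all_of_count [Finite G] (Q : G → Prop) (hinv : ∀ g ∈ I.Xt, ∀ u, Q u → Q (g * u * g⁻¹))
    (l : List ℕ) (hnd : l.Nodup) (hK : ∀ a ∈ l, inK a = true) (hl : ∀ a : Mdl, Q (I.ι a) ↔ code a ∈ l)
    (hcard : Nat.card {u // Q u} = l.length) {u : G} (hu : Q u) {r : G} (hr : I.Orb 3 r) : r * u = u * r := by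
  classical
  have : Fintype G := Fintype.ofFinite G
  let f : {a : Mdl // code a ∈ l} → {u // Q u} := fun a => ⟨I.ι a.1, (hl a.1).2 a.2⟩
  have hinj : Function.Injective f := fun a c h => Subtype.ext (I.ι_inj (congrArg (fun x : {u // Q u} => (x : G)) h))
  have hbij : Function.Bijective f := hinj.bijective_of_nat_card_le (by
    rw [hcard, card_eq_list hnd hK fun _ => Iff.rfl])
  obtain ⟨g, hg, rfl⟩ := orbR_trans hC ((mem_orbR hC).2 hr)
  obtain ⟨a, ha⟩ := hbij.2 ⟨g⁻¹ * u * g⁻¹⁻¹, hinv _ (inv_mem hg) _ hu⟩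
  have ha' : I.ι a.1 = g⁻¹ * u * g⁻¹⁻¹ := congrArg Subtype.val ha
  calc g * z * g⁻¹ * u = g * (z * (g⁻¹ * u * g⁻¹⁻¹)) * g⁻¹ := by group
    _ = g * (g⁻¹ * u * g⁻¹⁻¹ * z) * g⁻¹ := by rw [← ha', I.ι_comm]
    _ = _ := by group

variable (hb : I.Bit b) (S : I.Sides) [Finite G]
include hb S

theorem card_Xt : Nat.card I.Xt = 512 * (rl b).length := by
  classical
  have h := card_orb hb S (show 3 < 8 by norm_num) (by rcases b with - | - <;> rfl)
  rw [← h, mul_comm, show Nat.card {u : G // I.Orb 3 u} = (rl b).length from ?_]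
  · rfl
  · rw [← card_orbR (I := I), ← Nat.card_eq_finsetCard]
    exact Nat.card_congr (Equiv.subtypeEquivRight fun u => (mem_orbR hC).symm)

theorem card_fixPairs : Nat.card {p : G × G // IsConj z p.1 ∧ IsConj I.t3 p.2 ∧
      I.t3 ∈ zpowers (p.1 * p.2) ∧ ∀ r, I.Orb 3 r → r * p.1 = p.1 * r} =
    ((fixPairs b).map (wt b)).sum := by
  classical
  have h3 : I.t3 = I.ι (rep 3) := rfl
  refine card_of_list hC _ ?_ ?_ (fixPairs b) (((cwL_nodup.filter _).product (cwL_nodup.filter _)).filter _)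
    ?_ ?_ (fix_weights b)
  · rintro g hg ⟨u, v⟩ ⟨h1, h2, h3, h4⟩
    refine ⟨h1.trans (isConj_iff.2 ⟨g, rfl⟩), h2.trans (isConj_iff.2 ⟨g, rfl⟩), ?_, fun r hr => ?_⟩
    · have := mem_map_of_mem (MulAut.conj g).toMonoidHom h3
      rw [MonoidHom.map_zpowers, map_mul] at this
      simp only [MulEquiv.coe_toMonoidHom, MulAut.conj_apply] at this
      rwa [mem_Xt.1 hg, mul_inv_cancel_right] at this
    · have := h4 _ (hr.conj (inv_mem hg))
      calc r * (g * u * g⁻¹) = g * (g⁻¹ * r * g⁻¹⁻¹ * u) * g⁻¹ := by group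
        _ = _ := by rw [this]; group
  · rintro ⟨u, v⟩ ⟨h1, h2, h3, h4⟩
    have hv := sq_of_isConj I.t3_sq h2
    obtain ⟨-, hvt⟩ := comm_of_mem_zpowers (sq_of_isConj I.z_sq h1) hv I.t3_sq h3
    obtain ⟨r, hr, hrv⟩ := exists_orbR_fixed hC hv hvt.symm (I.orbR b) subset_rfl odd_orbR fun _ _ h => h
    exact ⟨r, (mem_orbR hC).1 hr, h4 r ((mem_orbR hC).1 hr), hrv.symm⟩
  · intro q hq
    obtain ⟨h1, h2⟩ := List.mem_product.1 (List.mem_filter.1 hq).1
    exact ⟨inK_cwL (List.mem_filter.1 h1).1, inK_cwL (List.mem_filter.1 h2).1⟩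
  · intro a v
    rw [fixPairs, List.mem_filter, List.mem_product, mem_zt_cwL, mem_zt_cwL, Bool.and_eq_true,
      Bool.not_eq_true', ← Bool.not_eq_true, hb, hb, ← comm_ι_iff hC, ← code_mul,
      hasPow_rep (show 3 < 8 by norm_num)]
    dsimp only
    rw [I.isConj_t3_iff S, h3, ← map_mul, ← MonoidHom.map_zpowers, mem_map_iff_mem I.ι_inj]
    constructor
    · rintro ⟨h1, ⟨h2, h2'⟩, h4, h5⟩
      obtain ⟨e1, e2⟩ := comm_of_mem_zpowers (I.isInv_of_zType h1).1 h2.1
        (isInv_rep (show 3 < 8 by norm_num)).1 h4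
      exact ⟨⟨⟨I.isInv_of_zType h1, e1.symm, h1, h5⟩, ⟨h2, e2.symm, h2'⟩⟩, h4⟩
    · rintro ⟨⟨⟨-, -, h1, h5⟩, ⟨h2, -, h2'⟩⟩, h4⟩
      exact ⟨h1, ⟨h2, h2'⟩, h4, h5⟩

end Iso

end Cfsg.Agent.HeLocal
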