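import Cfsg.Agent.Lib.HeLocal.Count.Far
import Cfsg.Agent.Lib.HeLocal.Pattern.Degenerate

/-!
# The order of the group, given the orbit of `z` under the centralizer of the second class
-/

set_option autoImplicit false

namespace Cfsg.Agent.HeLocal

open Subgroup Code
open Cfsg.Agent.HeLocal.Count Cfsg.Agent.Involutions.Basic

attribute [local irreducible] rep el code

namespace Iso

variable {G : Type*} [Group G] [Finite G] {z : G} {I : Iso z}

omit [Finite G] in
theorem t3_order (I : Iso z) : orderOf I.t3 = 2 := by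
  have : Fact (Nat.Prime 2) := ⟨Nat.prime_two⟩
  exact orderOf_eq_prime (by rw [pow_two, I.t3_sq]) (I.ι_ne (isInv_rep (by norm_num)))

omit [Finite G] in
theorem z_order (I : Iso z) : orderOf z = 2 := by
  have : Fact (Nat.Prime 2) := ⟨Nat.prime_two⟩
  exact orderOf_eq_prime (by rw [pow_two, I.z_sq]) (I.ι_zc ▸ I.ι_ne zc_inv)

section

variable (hC : I.IsOrbList true) (hb : I.Bit true) (S : I.Sides)
include hC hb S

/-- The commuting pairs of distinct members of the orbit of the eighth class. -/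
theorem card_farPairs : Nat.card {p : G × G // I.Orb 7 p.1 ∧ I.Orb 7 p.2 ∧ p.1 ≠ p.2 ∧ p.1 * p.2 = p.2 * p.1} =
    660 := by
  classical
  have hnd : (farPairs true).Nodup := ((cwL_nodup.filter _).product (cwL_nodup.filter _)).filter _
  rw [← far_weights.2]
  refine card_of_list hC _ ?_ ?_ (farPairs true) hnd ?_ ?_ (by rw [rl_length.2]; exact far_weights.1)
  · rintro g hg ⟨u, w⟩ ⟨h1, h2, h3, h4⟩
    refine ⟨h1.conj hg, h2.conj hg, fun e => h3 (mul_left_cancel (mul_right_cancel e)), ?_⟩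
    calc g * u * g⁻¹ * (g * w * g⁻¹) = g * (u * w) * g⁻¹ := by group
      _ = g * (w * u) * g⁻¹ := congrArg (fun x => g * x * g⁻¹) h4
      _ = _ := by group
  · rintro ⟨u, w⟩ ⟨h1, h2, -, h4⟩
    have hu2 := sq_of_isConj I.z_sq h1.isConj
    have hw2 := sq_of_isConj I.z_sq h2.isConj
    obtain ⟨r, hr, hrw⟩ := exists_orbR_fixed hC hw2 h2.comm ((I.orbR true).filter fun r => u * r = r * u)
      (Finset.filter_subset _ _) (odd_fixed _ odd_orbR hu2 fun r hr => orbR_conj hC (mem_Xt.2 h1.comm) hr)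
      (fun r hr h => Finset.mem_filter.2 ⟨h, by
        have h' := (Finset.mem_filter.1 hr).2
        dsimp only at h4
        calc u * (w * r * w⁻¹) = u * w * r * w⁻¹ := by group
          _ = w * (u * r) * w⁻¹ := by rw [h4]; group
          _ = w * r * (u * w⁻¹) := by rw [h']; group
          _ = _ := by rw [inv_eq_of_mul_eq_one_right hw2, h4]; group⟩)
    obtain ⟨hr3, hru⟩ := Finset.mem_filter.1 hr
    exact ⟨r, (mem_orbR hC).1 hr3, hru.symm, hrw.symm⟩
  · intro q hq
    obtain ⟨h1, h2⟩ := List.mem_product.1 (List.mem_filter.1 hq).1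
    exact ⟨inK_cwL (List.mem_filter.1 h1).1, inK_cwL (List.mem_filter.1 h2).1⟩
  · intro a c
    dsimp only
    rw [farPairs, List.mem_filter, List.mem_product, Bool.and_eq_true, Bool.not_eq_true', ← Bool.not_eq_true,
      beq_code, cm_code, orb_seven_iff hC hb S, orb_seven_iff hC hb S, ne_eq, I.ι_inj.eq_iff, I.ι_comm_iff,
      and_assoc]

/-- The pairs of members of the orbit of the eighth class with product of odd order. -/
theorem card_oddPairs :
    Nat.card {p : G × G // I.Orb 7 p.1 ∧ I.Orb 7 p.2 ∧ Odd (orderOf (p.1 * p.2))} = 2940 := by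
  classical
  have : Fintype G := Fintype.ofFinite G
  have : Fact (Nat.Prime 2) := ⟨Nat.prime_two⟩
  set A := (Finset.univ.filter fun p : G × G => I.Orb 7 p.1 ∧ I.Orb 7 p.2) with hA
  have hAc : A.card = 3600 := by
    rw [hA, ← Finset.univ_product_univ, Finset.filter_product, Finset.card_product,
      ← Fintype.card_subtype, ← Nat.card_eq_fintype_card, (card_orb_true hC hb S).2.2]
  have hsplit := A.card_filter_add_card_filter_not fun p : G × G => Odd (orderOf (p.1 * p.2))
  have heven : (A.filter fun p => ¬ Odd (orderOf (p.1 * p.2))).card = 660 := by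
    rw [← card_farPairs hC hb S, Nat.card_eq_fintype_card, Fintype.card_subtype, hA, Finset.filter_filter]
    refine congrArg Finset.card (Finset.filter_congr fun p _ => ?_)
    rw [Nat.not_odd_iff_even]
    constructor
    · rintro ⟨⟨h1, h2⟩, h3⟩
      refine ⟨h1, h2, fun e => ?_, far_comm hC hb S h1 h2 h3⟩
      rw [e, sq_of_isConj I.z_sq h2.isConj, orderOf_one] at h3
      exact absurd h3 (by decide)
    · rintro ⟨h1, h2, h3, h4⟩
      refine ⟨⟨h1, h2⟩, ?_⟩
      have hu := sq_of_isConj I.z_sq h1.isConj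
      have hw := sq_of_isConj I.z_sq h2.isConj
      have : orderOf (p.1 * p.2) = 2 := orderOf_eq_prime (by
        rw [pow_two, mul_assoc, ← mul_assoc p.2, ← h4, mul_assoc p.1, hw, mul_one, hu]) fun e => h3 (by
        calc p.1 = p.1 * p.2 * p.2 := by rw [mul_assoc, hw, mul_one]
          _ = p.2 := by rw [e, one_mul])
      rw [this]; decide
  rw [Nat.card_eq_fintype_card, Fintype.card_subtype]
  rw [heven, hAc, hA, Finset.filter_filter] at hsplit
  simp only [← and_assoc]
  omega

/-- The pairs attached to the second class with first member in the orbit of the eighth class. -/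
theorem card_farSecond : Nat.card {p : G × G // IsConj z p.1 ∧ IsConj I.t3 p.2 ∧ I.t3 ∈ zpowers (p.1 * p.2) ∧
      I.Orb 7 p.1} = 2940 := by
  classical
  rw [← card_oddPairs hC hb S]
  have ht2 := I.t3_sq
  have hto : orderOf I.t3 = 2 := t3_order I
  have hnot : ∀ {u : G}, I.Orb 7 u → ¬ IsConj z (u * I.t3) := fun {u} h e => by
    have := (h.isConj_mul_t3 hb (by norm_num) (by norm_num)).1 e
    simp [S2, inS, swap45] at this
  refine Nat.card_congr ((Equiv.prodCongr (Equiv.refl G) (Equiv.mulRight I.t3)).subtypeEquiv ?_)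
  rintro ⟨u, v⟩
  simp only [Equiv.prodCongr_apply, Equiv.coe_refl, Prod.map_fst, Prod.map_snd, id_eq, Equiv.coe_mulRight]
  constructor
  · rintro ⟨h1, h2, h3, h4⟩
    have hu := sq_of_isConj I.z_sq h1
    have hv := sq_of_isConj ht2 h2
    have hvt := (comm_of_mem_zpowers hu hv ht2 h3).2
    have hmid := Cfsg.Agent.Involutions.OrderFormula.eq_middle hto h3
    set n := orderOf (u * v) with hn
    have hX : u * v ∈ I.Xt := mul_mem (mem_Xt.2 h4.comm) (mem_Xt.2 hvt.symm)
    have ho : ∀ a w : G, orderOf a = 2 → IsConj a w → orderOf w = 2 := by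
      intro a w ha hw
      obtain ⟨g, rfl⟩ := isConj_iff.1 hw
      rw [orderOf_conj, ha]
    have hne : ¬ IsConj u v := fun e => I.not_zType_three ((h1.trans e).trans h2.symm)
    obtain ⟨k, hk⟩ := even_orderOf_mul_of_not_isConj (ho _ _ (z_order I) h1) (ho _ _ hto h2) hne
    rw [← hn] at hk
    rw [show n / 2 = k by omega] at hmid
    rcases Nat.even_or_odd k with ⟨j, hj⟩ | ⟨j, hj⟩
    · refine absurd ?_ (hnot h4)
      have := (h4.conj (inv_mem (pow_mem hX j))).isConj
      rwa [inv_inv, mul_pow_even hu hv, ← hj, ← hmid] at this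
    · have e : u * (v * I.t3) = (u * v) ^ (k + 1) := by rw [← mul_assoc, hmid, ← pow_succ']
      refine ⟨h4, ?_, ?_⟩
      · have := h4.conj (inv_mem (pow_mem hX (j + 1)))
        rw [inv_inv, mul_pow_even hu hv, show j + 1 + (j + 1) = k + 1 by omega, ← e, ← mul_assoc u u, hu,
          one_mul] at this
        exact this
      · rw [e]
        refine Odd.of_dvd_nat ⟨j, hj⟩ (orderOf_dvd_of_pow_eq_one ?_)
        rw [← pow_mul, show (k + 1) * k = n * (j + 1) by rw [hk, hj]; ring, pow_mul, hn, pow_orderOf_eq_one,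
          one_pow]
  · rintro ⟨h4, h5, h6⟩
    have hv2 : v = v * I.t3 * I.t3 := by rw [mul_assoc, ht2, mul_one]
    have hinv : v * v = 1 := by
      conv_lhs => rw [hv2]
      rw [show v * I.t3 * I.t3 * (v * I.t3 * I.t3) = v * I.t3 * (I.t3 * (v * I.t3)) * I.t3 by group,
        ← h5.comm, show v * I.t3 * (v * I.t3 * I.t3) * I.t3 = v * I.t3 * (v * I.t3) * (I.t3 * I.t3) by group,
        ht2, mul_one, sq_of_isConj I.z_sq h5.isConj]
    have hv1 : v ≠ 1 := fun e => I.not_zType_three (by
      have := h5.isConj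
      rwa [e, one_mul] at this)
    refine ⟨h4.isConj, (I.isConj_or S hinv hv1).resolve_left fun e => hnot h5 (by rwa [← hv2]), ?_, h4⟩
    refine mem_zpowers_iff.2 ⟨(orderOf (u * (v * I.t3)) : ℤ), ?_⟩
    have hc : Commute (u * (v * I.t3)) I.t3 :=
      mem_Xt.1 (mul_mem (mem_Xt.2 h4.comm) (mem_Xt.2 h5.comm))
    have hq : u * v = u * (v * I.t3) * I.t3 := by rw [mul_assoc, mul_assoc, ht2, mul_one]
    rw [zpow_natCast, hq, hc.mul_pow, pow_orderOf_eq_one, one_mul]
    obtain ⟨j, hj⟩ := h6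
    rw [hj, pow_succ, pow_mul, pow_two, ht2, one_pow, one_mul]

end

/-- The pairs attached to the second class. -/
theorem card_pairs_t {b : Bool} (hC : I.IsOrbList b) (hb : I.Bit b) (S : I.Sides) :
    Nat.card {p : G × G // IsConj z p.1 ∧ IsConj I.t3 p.2 ∧ I.t3 ∈ zpowers (p.1 * p.2)} =
      bif b then 3435 else 123 := by
  classical
  have hcomm : ∀ p : G × G, IsConj z p.1 → IsConj I.t3 p.2 → I.t3 ∈ zpowers (p.1 * p.2) →
      p.1 * I.t3 = I.t3 * p.1 := fun p h1 h2 h3 =>
    (comm_of_mem_zpowers (sq_of_isConj I.z_sq h1) (sq_of_isConj I.t3_sq h2) I.t3_sq h3).1.symm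
  have hfix := card_fixPairs hC hb S
  rcases b with - | -
  · rw [cond_false, ← fix_sum.1, ← hfix]
    refine Nat.card_congr (Equiv.subtypeEquivRight fun p => ⟨fun h => ⟨h.1, h.2.1, h.2.2, fun r hr => ?_⟩,
      fun h => ⟨h.1, h.2.1, h.2.2.1⟩⟩)
    exact comm_all_false hC hb S h.1 (hcomm p h.1 h.2.1 h.2.2) hr
  · rw [cond_true, show 3435 = 495 + 2940 from rfl, ← fix_sum.2, ← hfix, ← card_farSecond hC hb S,
      ← Nat.card_sum]
    have e : ∀ p : G × G, (IsConj z p.1 ∧ IsConj I.t3 p.2 ∧ I.t3 ∈ zpowers (p.1 * p.2)) ↔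
        ((IsConj z p.1 ∧ IsConj I.t3 p.2 ∧ I.t3 ∈ zpowers (p.1 * p.2) ∧ ∀ r, I.Orb 3 r → r * p.1 = p.1 * r) ∨
          (IsConj z p.1 ∧ IsConj I.t3 p.2 ∧ I.t3 ∈ zpowers (p.1 * p.2) ∧ I.Orb 7 p.1)) := by
      intro p
      constructor
      · rintro ⟨h1, h2, h3⟩
        exact (comm_all_or_far hC hb S h1 (hcomm p h1 h2 h3)).imp (fun h => ⟨h1, h2, h3, h⟩)
          fun h => ⟨h1, h2, h3, h⟩
      · rintro (⟨h1, h2, h3, -⟩ | ⟨h1, h2, h3, -⟩) <;> exact ⟨h1, h2, h3⟩
    rw [Nat.card_congr (Equiv.subtypeEquivRight e)]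
    refine Nat.card_congr (subtypeOrEquiv _ _ ?_)
    rw [Pi.disjoint_iff]
    intro p
    simp only [Prop.disjoint_iff]
    exact fun h => not_comm_all hC hb S h.2.2.2.2 h.1.2.2.2

/-- The order of the group. -/
theorem card_eq {b : Bool} (hC : I.IsOrbList b) (hb : I.Bit b) (S : I.Sides) :
    Nat.card G = bif b then 244823040 else 9999360 := by
  have hto : orderOf I.t3 = 2 := t3_order I
  have hall : ∀ t : G, orderOf t = 2 → IsConj z t ∨ IsConj I.t3 t := by
    intro t ht
    refine I.isConj_or S ?_ fun e => ?_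
    · have := pow_orderOf_eq_one t
      rwa [ht, pow_two] at this
    · rw [e, orderOf_one] at ht; norm_num at ht
  have h := Cfsg.Agent.Involutions.OrderFormula.order_formula z I.t3 (z_order I) hto I.not_zType_three hall
  have hcz : Nat.card (centralizer ({z} : Set G)) = 21504 :=
    (Nat.card_congr I.e.toEquiv).symm.trans card_mdl
  rw [I.card_pairs_z hb S, card_pairs_t hC hb S, hcz] at h
  rw [h, show Nat.card (centralizer ({I.t3} : Set G)) = 512 * (rl b).length from card_Xt hC hb S]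
  rcases b with - | -
  · rw [rl_length.1, n1c_eq.1]; rfl
  · rw [rl_length.2, n1c_eq.2]; rfl

end Iso

end Cfsg.Agent.HeLocal
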